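import Cfsg.Agent.SuzukiUniq.Iso
import Cfsg.Agent.SuzukiTI.Main

/-!
# Suzuki's TI theorem up to isomorphism
-/

set_option autoImplicit false

open Subgroup MulAction

namespace Cfsg.Agent.SuzukiUniq

open Cfsg.Agent.SuzukiTI

/-- Suzuki's theorem for a TI subgroup, up to isomorphism. -/
theorem hyp_iso {G : Type*} [Group G] [Finite G] {K : Subgroup G} (H : Hyp K) :
    (∃ (F : Type) (_ : Field F) (_ : Fintype F), CharP F 2 ∧ 4 ≤ Fintype.card F ∧
      Nonempty (G ≃* Matrix.SpecialLinearGroup (Fin 2) F) ∧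
      Nonempty (G ≃* Matrix.ProjectiveSpecialLinearGroup (Fin 2) F)) ∨ Cfsg.Lie.IsoSuzuki G := by
  by_cases hab : ∀ x ∈ K, ∀ y ∈ K, x * y = y * x
  · exact Or.inl (H.psl hab)
  · push Not at hab
    obtain ⟨x, hx, y, hy, hxy⟩ := hab
    haveI := H.simple
    haveI := Fintype.ofFinite (Pt K)
    obtain ⟨g, hg⟩ : ∃ g : G, g • base K ≠ base K := by
      by_contra h
      push Not at h
      exact H.notNormal (eq_top_iff.mpr fun g _ => (smul_base_iff K g).mp (h g))
    refine Or.inr (isoSuzuki_of_zassenhaus H.zassenhaus hg.symm (U := K) ⟨fun k hk =>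
      (smul_base_iff K k).mpr (le_normalizer hk), fun h hh k hk => ?_, fun c c' hc hc' => ?_⟩
      H.isPGroup ⟨x, hx, y, hy, hxy⟩)
    · exact (mem_normalizer_iff.mp ((smul_base_iff K h).mp hh) k).mp hk
    · obtain ⟨k, hk, e⟩ := H.exists_smul_eq hc hc'
      refine ⟨⟨k, hk⟩, e, fun l hl => Subtype.ext (inv_mul_eq_one.mp
        (H.pair_disj hc (mul_mem (inv_mem hk) l.2) ?_)).symm⟩
      rw [mul_smul, inv_smul_eq_iff]
      exact hl.trans e.symm

end Cfsg.Agent.SuzukiUniq
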