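import Cfsg.Agent.SuzukiUniq.Setup
import Cfsg.Agent.Suzuki.Basic
import Cfsg.Prelude.Def_Sz

/-!
# A Zassenhaus group with a nonabelian 2-group as kernel is a Suzuki group
-/

set_option autoImplicit false
set_option linter.unusedSectionVars false

namespace Cfsg.Agent.SuzukiUniq

open Subgroup MulAction Cfsg.Agent.Zassenhaus Cfsg.Agent.RankOne.Ovoid

variable {G : Type*} {Ω : Type*} [Group G] [Finite G] [MulAction G Ω] [Fintype Ω]

section Choice

variable {a b : Ω} {U : Subgroup G} {F : Type*} [Field F] [Finite F] [CharP F 2] {φ : F ≃+* F}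
  {e : F × F ≃ U} (X : EvenCtx G a b U) (C : Coord a b U φ e)

include X C in
theorem exists_norm_w [IsSimpleGroup G] :
    ∃ (w : G) (f : F × F → F × F) (l : F), w • a = b ∧ w • b = a ∧
      (∀ p, p ≠ 0 → w • pt b e p = pt b e (f p)) ∧ f (0, 1) = (1, l) := by
  obtain ⟨w, hw, hwa, hwb⟩ := X.odd.exists_swap
  obtain ⟨f, hf⟩ := exists_map X C hwa hwb
  have hz : ((0, 1) : F × F) ≠ 0 := fun h => one_ne_zero (congrArg Prod.snd h)
  have hA := map_ne_zero' X C hwa hwb hf _ hz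
  have hchange : ∀ s : F, s ≠ 0 → ∃ w' : G, w' • a = b ∧ w' • b = a ∧
      ∀ p, p ≠ 0 → w' • pt b e p = pt b e (act φ s (f p)) := by
    intro s hs
    obtain ⟨d, hd, h⟩ := C.conj s hs
    refine ⟨d * w, by rw [mul_smul, hwa]; exact hd.2, by rw [mul_smul, hwb]; exact hd.1, fun p hp => ?_⟩
    rw [mul_smul, hf p hp, conj_pt X C hd h]
  by_cases h1 : (f (0, 1)).1 = 0
  · exfalso
    have hl : (f (0, 1)).2 ≠ 0 := fun h => hA (Prod.ext h1 h)
    obtain ⟨s, hs⟩ := C.norm (f (0, 1)).2⁻¹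
    have hs0 : s ≠ 0 := fun h => inv_ne_zero hl (by rw [← hs, h, mul_zero])
    obtain ⟨w', hwa', hwb', hf'⟩ := hchange s hs0
    have hfz : act φ s (f (0, 1)) = (0, 1) := by
      refine Prod.ext ?_ ?_
      · show s * _ = 0
        rw [h1, mul_zero]
      · show φ s * s * _ = 1
        rw [hs, inv_mul_cancel₀ hl]
    obtain ⟨d, δ, hd, hδ0, hδ, hT, hfix⟩ := triple X C hwa' hwb' hf'
    simp only [hfz] at hT hfix
    have hinv : e.symm (e ((0, 1) : F × F))⁻¹ = (0, 1) := by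
      rw [Equiv.symm_apply_eq]
      refine inv_eq_of_mul_eq_one_right ?_
      rw [← C.map_mul, ← e_zero X C]
      congr 1
      refine Prod.ext ?_ ?_ <;> simp [mul, CharTwo.add_self_eq_zero]
    rw [hinv, hfz] at hfix
    have hδ1 : δ = 1 := by
      have h := congrArg Prod.snd hfix
      simp only [act, mul_one] at h
      exact (Finite.injective_iff_surjective (f := fun x : F => φ x * x)).mpr C.norm
        (h.trans (by simp : (1 : F) = φ 1 * 1))
    have hd1 : d = 1 := by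
      refine X.odd.zctx.three d a b (pt b e (1, 0)) X.odd.ne ?_ (pt_ne X C _).symm hd.1 hd.2 ?_
      · intro h
        exact one_ne_zero (congrArg Prod.fst (pt_injective X C ((pt_zero X C).trans h))).symm
      · rw [conj_pt X C hd hδ, hδ1]
        simp [act]
    rw [hd1, mul_one] at hT
    set z : G := (e (0, 1) : G) with hzdef
    have hzi : z⁻¹ = z := by
      rw [hzdef, ← Subgroup.coe_inv]
      exact congrArg Subtype.val (by rw [← e.apply_symm_apply (e (0, 1))⁻¹, hinv])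
    rw [hzi] at hT
    have hzz : z * z = 1 := by
      nth_rewrite 1 [← hzi]
      exact inv_mul_cancel z
    have hw2 := w_sq X C hwa' hwb' hf'
    have h3 : (z * w') ^ 3 = 1 := by
      calc (z * w') ^ 3 = z * (w' * z * w') * z * w' := by simp [pow_succ, mul_assoc]
        _ = z * (z * w' * z) * z * w' := by rw [hT]
        _ = (z * z) * w' * (z * z) * w' := by simp [mul_assoc]
        _ = 1 := by rw [hzz, one_mul, mul_one, hw2]
    have hne : z * w' ≠ 1 := fun h => by
      have h4 : (z * w') • b = b := by rw [h, one_smul]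
      rw [mul_smul, hwb'] at h4
      exact X.odd.ne ((X.ker.fix z (e _).2).symm.trans h4)
    have h3' : 3 ∣ Nat.card G := by
      haveI : Fact (Nat.Prime 3) := ⟨Nat.prime_three⟩
      rw [← orderOf_eq_prime h3 hne]
      exact orderOf_dvd_natCard _
    obtain ⟨n, ⟨k, rfl⟩, -, hD, hU⟩ := X.exists_exponent
    have hG := X.card_group
    rw [hU, Nat.eq_sub_of_add_eq hD] at hG
    have hq : 2 ^ (2 * k + 1) % 3 = 2 := by
      rw [pow_succ, pow_mul, Nat.mul_mod, Nat.pow_mod]; norm_num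
    rw [hG] at h3'
    generalize 2 ^ (2 * k + 1) = q at hq h3' hD
    rcases (Nat.prime_three.dvd_mul.mp h3') with h | h
    · have : (q ^ 2 + 1) % 3 = 2 := by rw [Nat.add_mod, Nat.pow_mod, hq]
      omega
    · rcases (Nat.prime_three.dvd_mul.mp h) with h | h
      · have := Nat.prime_three.dvd_of_dvd_pow h
        omega
      · omega
  · obtain ⟨w', hwa', hwb', hf'⟩ := hchange (f (0, 1)).1⁻¹ (inv_ne_zero h1)
    refine ⟨w', _, _, hwa', hwb', hf', Prod.ext (inv_mul_cancel₀ h1) rfl⟩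

/-- The coordinates attached to the inverse automorphism. -/
theorem Coord.dual (C : Coord a b U φ e) :
    ∃ e' : F × F ≃ U, Coord a b U φ.symm e' ∧
      ∀ p, e p = e' (φ p.1, p.2 + φ p.1 * p.1) := by
  have h2 : (2 : F) = 0 := CharTwo.two_eq_zero
  let ι : F × F ≃ F × F :=
    { toFun := fun p => (φ p.1, p.2 + φ p.1 * p.1)
      invFun := fun p => (φ.symm p.1, p.2 + p.1 * φ.symm p.1)
      left_inv := fun p => Prod.ext (φ.symm_apply_apply _) (by
        show p.2 + φ p.1 * p.1 + φ p.1 * φ.symm (φ p.1) = p.2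
        rw [φ.symm_apply_apply]; linear_combination φ p.1 * p.1 * h2)
      right_inv := fun p => Prod.ext (φ.apply_symm_apply _) (by
        show p.2 + p.1 * φ.symm p.1 + φ (φ.symm p.1) * φ.symm p.1 = p.2
        rw [φ.apply_symm_apply]; linear_combination p.1 * φ.symm p.1 * h2) }
  refine ⟨ι.symm.trans e, ⟨?_, fun c => ?_, fun p q => ?_, C.card, fun t ht => ?_⟩, fun p => ?_⟩
  · obtain ⟨x, hx⟩ := C.nontriv
    exact ⟨φ x, fun h => hx (by rw [φ.symm_apply_apply] at h; exact h.symm)⟩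
  · obtain ⟨x, hx⟩ := C.norm c
    exact ⟨φ x, by rw [φ.symm_apply_apply, mul_comm, hx]⟩
  · simp only [Equiv.trans_apply, ← C.map_mul]
    congr 1
    show (φ.symm (p.1 + q.1), (p.2 + q.2 + φ.symm p.1 * q.1) + (p.1 + q.1) * φ.symm (p.1 + q.1)) =
      mul φ (φ.symm p.1, p.2 + p.1 * φ.symm p.1) (φ.symm q.1, q.2 + q.1 * φ.symm q.1)
    simp only [mul, map_add, φ.apply_symm_apply]
    refine Prod.ext rfl ?_
    linear_combination (φ.symm p.1 * q.1) * h2
  · obtain ⟨d, hd, h⟩ := C.conj (φ.symm t) (by simpa using ht)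
    refine ⟨d, hd, fun p => ?_⟩
    simp only [Equiv.trans_apply, h]
    congr 2
    show act φ (φ.symm t) (φ.symm p.1, p.2 + p.1 * φ.symm p.1) =
      (φ.symm (t * p.1), φ.symm t * t * p.2 + t * p.1 * φ.symm (t * p.1))
    simp only [act, φ.apply_symm_apply]
    refine Prod.ext (_root_.map_mul φ.symm _ _).symm ?_
    simp only [_root_.map_mul]
    ring
  · simp only [Equiv.trans_apply]
    congr 1
    exact (ι.symm_apply_apply p).symm

include X C in
/-- Coordinates in which the inversion has constant `0`. -/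
theorem exists_data [IsSimpleGroup G] :
    ∃ (φ' : F ≃+* F) (e' : F × F ≃ U) (w : G) (f : F × F → F × F),
      Coord a b U φ' e' ∧ w • a = b ∧ w • b = a ∧
      (∀ p, p ≠ 0 → w • pt b e' p = pt b e' (f p)) ∧ Data φ' 0 f := by
  obtain ⟨w, f, l, hwa, hwb, hf, hfz⟩ := exists_norm_w X C
  have D := normalised X C hwa hwb hf hfz
  rcases D.l_eq with rfl | rfl
  · exact ⟨φ, e, w, f, C, hwa, hwb, hf, D⟩
  obtain ⟨e', C', he⟩ := C.dual
  obtain ⟨f', hf'⟩ := exists_map X C' hwa hwb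
  refine ⟨φ.symm, e', w, f', C', hwa, hwb, hf', normalised X C' hwa hwb hf' ?_⟩
  have hz : ((0, 1) : F × F) ≠ 0 := fun h => one_ne_zero (congrArg Prod.snd h)
  refine pt_injective X C' ?_
  have h1 := hf (0, 1) hz
  rw [hfz] at h1
  simp only [pt, he, map_zero, map_one, zero_mul, mul_one, add_zero,
    show (1 : F) + 1 = 0 from CharTwo.add_self_eq_zero 1] at h1
  rw [← hf' (0, 1) hz]
  exact h1

end Choice

theorem auto_eq {F : Type*} [Field F] [Fintype F] [CharP F 2] {φ : F ≃+* F} {m : ℕ}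
    (hF : Fintype.card F = 2 ^ (2 * m + 1)) (hφ : ∀ x, φ (φ x) = x * x) (x : F) :
    φ x = x ^ (2 ^ (m + 1)) := by
  haveI : Fact (Nat.Prime 2) := ⟨Nat.prime_two⟩
  letI := ZMod.algebra F 2
  obtain ⟨⟨j, hj'⟩, hj⟩ := (FiniteField.bijective_frobeniusAlgEquivOfAlgebraic_pow (ZMod 2) F).2
    (AlgEquiv.ofRingEquiv (f := φ) fun c => by
      have : (φ.toRingHom.comp (algebraMap (ZMod 2) F)) = algebraMap (ZMod 2) F := Subsingleton.elim _ _
      exact RingHom.congr_fun this c)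
  have hpow : ∀ y, φ y = y ^ 2 ^ j := by
    intro y
    have h := AlgEquiv.congr_fun hj y
    simp [FiniteField.coe_frobeniusAlgEquivOfAlgebraic, AlgEquiv.coe_pow,
      pow_iterate] at h
    exact h.symm
  have hdbl : ∀ (k : ℕ) (y : F), y ^ 2 ^ (2 * j * k) = y ^ 2 ^ k := by
    intro k
    induction k with
    | zero => intro y; simp
    | succ k ih =>
      intro y
      rw [Nat.mul_succ, pow_add, pow_mul, ih, pow_succ 2 k, pow_mul y (2 ^ k) 2, pow_two,
        two_mul j, pow_add, pow_mul, ← hpow (y ^ 2 ^ k), ← hpow, hφ]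
  have hN : ∀ k (y : F), y ^ 2 ^ ((2 * m + 1) * k) = y := by
    intro k
    induction k with
    | zero => intro y; simp
    | succ k ih => intro y; rw [Nat.mul_succ, pow_add, pow_mul, ih, ← hF, FiniteField.pow_card]
  rw [← hdbl (m + 1), show 2 * j * (m + 1) = j + (2 * m + 1) * j by ring, pow_add, pow_mul,
    ← hpow, hN]

theorem J_pP {F : Type*} [Field F] [Fintype F] {m : ℕ} (hG : Good F m) {x y : F}
    (hz : x * y + x ^ (2 ^ (m + 1)) * x ^ 2 + y ^ (2 ^ (m + 1)) ≠ 0) (hxy : x ≠ 0 ∨ y ≠ 0) :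
    Suzuki.J hG • (Suzuki.pP x y : Cfsg.suzukiOvoid F m) =
      Suzuki.pP (y / (x * y + x ^ (2 ^ (m + 1)) * x ^ 2 + y ^ (2 ^ (m + 1))))
        (x / (x * y + x ^ (2 ^ (m + 1)) * x ^ 2 + y ^ (2 ^ (m + 1)))) := by
  rcases Suzuki.point_cases (Suzuki.J hG • (Suzuki.pP x y : Cfsg.suzukiOvoid F m)) with h | ⟨x', y', h⟩
  · exfalso
    have := congrArg (fun p => Suzuki.J hG • p) h
    simp only [← mul_smul, Suzuki.J_mul_J hG, one_smul, Suzuki.J_pI] at this
    obtain ⟨rfl, rfl⟩ := Suzuki.pP_inj this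
    simp at hxy
  · rw [h]
    obtain ⟨c, hc⟩ := (Projectivization.mk_eq_mk_iff' F _ _ _ _).mp (congrArg Subtype.val h)
    change c • vPt m x' y' =
      ((Suzuki.J hG : Matrix.SpecialLinearGroup (Fin 4) F) : Matrix (Fin 4) (Fin 4) F).mulVec
        (vPt m x y) at hc
    rw [Suzuki.coe_J, Suzuki.revMat_mulVec] at hc
    have h3 := congrFun hc 3
    have h2 := congrFun hc 2
    have h1 := congrFun hc 1
    have h0 := congrFun hc 0
    simp [vPt, inver, pow_add] at h0 h1 h2 h3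
    have e3 : c = x * y + x ^ (2 ^ (m + 1)) * x ^ 2 + y ^ (2 ^ (m + 1)) := by
      linear_combination h3
    congr 1
    · rw [← e3, eq_div_iff (e3 ▸ hz)]; linear_combination h2
    · rw [← e3, eq_div_iff (e3 ▸ hz)]; linear_combination h1

/-- A simple Zassenhaus group with a nonabelian 2-group as kernel is a Suzuki group. -/
theorem isoSuzuki_of_evenCtx [IsSimpleGroup G] {a b : Ω} {U : Subgroup G} (X : EvenCtx G a b U) :
    Cfsg.Lie.IsoSuzuki G := by
  classical
  obtain ⟨F, iF, iFf, iC, φ₀, e₀, C₀⟩ := exists_coord X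
  obtain ⟨φ, e, w, f, C, hwa, hwb, hf, D⟩ := exists_data X C₀
  obtain ⟨n, ⟨m, rfl⟩, hn1, hd, hUcard⟩ := X.exists_exponent
  have hm : 1 ≤ m := by omega
  have hF : Fintype.card F = 2 ^ (2 * m + 1) := by
    rw [← Nat.card_eq_fintype_card, C.card, hd]
  have hG := good_of_card (m := m) hF
  have hφ : ∀ x, φ x = x ^ (2 ^ (m + 1)) := auto_eq hF (D.phi_phi rfl)
  let π : Ω → Cfsg.suzukiOvoid F m := fun c =>
    if h : c = a then Suzuki.pI else
      Suzuki.pP (pt_surj X C h).choose.1 (pt_surj X C h).choose.2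
  have hπa : π a = Suzuki.pI := dif_pos rfl
  have hπp : ∀ p, π (pt b e p) = Suzuki.pP p.1 p.2 := fun p => by
    have h := pt_ne X C p
    simp only [π, dif_neg h]
    rw [pt_injective X C (pt_surj X C h).choose_spec]
  have hcases : ∀ c : Ω, c = a ∨ ∃ p, pt b e p = c := fun c => by
    by_cases h : c = a
    · exact Or.inl h
    · exact Or.inr (pt_surj X C h)
  have hbij : Function.Bijective π := by
    refine ⟨fun c c' h => ?_, fun p => ?_⟩
    · rcases hcases c with rfl | ⟨p, rfl⟩ <;> rcases hcases c' with rfl | ⟨p', rfl⟩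
      · rfl
      · rw [hπa, hπp] at h; exact absurd h.symm (Suzuki.pP_ne_pI _ _)
      · rw [hπa, hπp] at h; exact absurd h (Suzuki.pP_ne_pI _ _)
      · rw [hπp, hπp] at h
        obtain ⟨h1, h2⟩ := Suzuki.pP_inj h
        rw [Prod.ext h1 h2]
    · rcases Suzuki.point_cases p with rfl | ⟨x, y, rfl⟩
      · exact ⟨a, hπa⟩
      · exact ⟨_, hπp (x, y)⟩
  let P := Equiv.ofBijective π hbij
  haveI := X.odd.zas.1
  haveI : FaithfulSMul (Cfsg.Sz F m) (Cfsg.suzukiOvoid F m) := (Suzuki.isThreeFree hm hF).faithful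
  let Φ : G →* Equiv.Perm (Cfsg.suzukiOvoid F m) :=
    P.permCongrHom.toMonoidHom.comp (MulAction.toPermHom G Ω)
  let Ψ : Cfsg.Sz F m →* Equiv.Perm (Cfsg.suzukiOvoid F m) :=
    MulAction.toPermHom (Cfsg.Sz F m) (Cfsg.suzukiOvoid F m)
  have hΦ : ∀ g c, Φ g (π c) = π (g • c) := fun g c => by
    show P (g • P.symm (P c)) = _
    rw [P.symm_apply_apply]; rfl
  have hΦinj : Function.Injective Φ := fun g h e' => FaithfulSMul.eq_of_smul_eq_smul fun c : Ω =>
    hbij.1 (by rw [← hΦ, ← hΦ, e'])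
  have hΨinj : Function.Injective Ψ := fun g h e' =>
    FaithfulSMul.eq_of_smul_eq_smul fun c : Cfsg.suzukiOvoid F m => Equiv.congr_fun e' c
  have hU : ∀ u ∈ U, Φ u ∈ Ψ.range := fun u hu => by
    obtain ⟨p, hp⟩ := e.surjective ⟨u, hu⟩
    refine ⟨Suzuki.T hG p.1 p.2, Equiv.ext fun c => ?_⟩
    obtain ⟨c, rfl⟩ := hbij.2 c
    rw [hΦ, show u = (e p : G) by rw [hp]]
    show Suzuki.T hG p.1 p.2 • π c = _
    rcases hcases c with rfl | ⟨q, rfl⟩
    · rw [X.ker.fix _ (e p).2, hπa, Suzuki.T_pI]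
    · rw [smul_pt X C, hπp, hπp, Suzuki.T_pP]
      congr 1
      · exact add_comm _ _
      · simp only [mul, hφ]; ring
  have hw : Φ w ∈ Ψ.range := by
    refine ⟨Suzuki.J hG, Equiv.ext fun c => ?_⟩
    obtain ⟨c, rfl⟩ := hbij.2 c
    rw [hΦ]
    show Suzuki.J hG • π c = _
    rcases hcases c with rfl | ⟨⟨x, y⟩, rfl⟩
    · rw [hwa, ← pt_zero X C, hπa, hπp, Suzuki.J_pI]
      rfl
    by_cases h0 : (x, y) = (0 : F × F)
    · obtain ⟨rfl, rfl⟩ : x = 0 ∧ y = 0 := Prod.ext_iff.mp h0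
      rw [h0, pt_zero X C, hwb, hπa, ← pt_zero X C, hπp]
      exact Suzuki.J_pP_zero hG
    have hxy : x ≠ 0 ∨ y ≠ 0 := by
      by_contra hh
      push Not at hh
      exact h0 (Prod.ext hh.1 hh.2)
    have hform := D.formula rfl hxy
    rw [hφ, hφ] at hform
    have hne : x * y + x ^ (2 ^ (m + 1)) * x ^ 2 + y ^ (2 ^ (m + 1)) ≠ 0 := fun h => by
      rw [h, div_zero, div_zero] at hform
      exact D.ne_zero _ h0 hform
    rw [hf _ h0, hπp, hπp, hform, J_pP hG hne hxy]
  have hrange : Φ.range ≤ Ψ.range := by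
    let M : Subgroup G := Ψ.range.comap Φ
    have hUM : U ≤ M := hU
    have hwM : w ∈ M := hw
    have htrans : ∀ c : Ω, ∃ g ∈ M, g • a = c := fun c => by
      rcases hcases c with rfl | ⟨p, rfl⟩
      · exact ⟨1, one_mem M, one_smul _ _⟩
      · exact ⟨e p * w, mul_mem (hUM (e p).2) hwM, by rw [mul_smul, hwa]; rfl⟩
    have hncl : normalClosure (U : Set G) ≤ M := by
      refine (closure_le M).mpr fun x hx => ?_
      obtain ⟨u, hu, hxu⟩ := Group.mem_conjugatesOfSet_iff.mp hx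
      obtain ⟨g, rfl⟩ := isConj_iff.mp hxu
      obtain ⟨k, hk, hka⟩ := htrans (g • a)
      have hfix : (k⁻¹ * g) • a = a := by rw [mul_smul, ← hka, inv_smul_smul]
      have hmem := hUM (X.ker.norm _ hfix u hu)
      have : g * u * g⁻¹ = k * ((k⁻¹ * g) * u * (k⁻¹ * g)⁻¹) * k⁻¹ := by group
      rw [SetLike.mem_coe, this]
      exact mul_mem (mul_mem hk hmem) (inv_mem hk)
    have htop : normalClosure (U : Set G) = ⊤ := by
      refine (normalClosure_normal.eq_bot_or_eq_top).resolve_left fun h => ?_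
      obtain ⟨u, hu, v, hv, huv⟩ := X.nonab
      have : U = ⊥ := eq_bot_iff.mpr fun x hx => h ▸ subset_normalClosure hx
      rw [this, mem_bot] at hu hv
      exact huv (by rw [hu, hv])
    rintro _ ⟨g, rfl⟩
    exact (hncl (htop ▸ mem_top g) : g ∈ M)
  have heq : Φ.range = Ψ.range := by
    refine eq_of_le_of_card_ge hrange (le_of_eq ?_)
    rw [← Nat.card_congr (MonoidHom.ofInjective hΦinj).toEquiv,
      ← Nat.card_congr (MonoidHom.ofInjective hΨinj).toEquiv, X.card_group, hUcard,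
      Suzuki.card_eq hm hF, Nat.eq_sub_of_add_eq hd,
      Nat.card_eq_fintype_card, hF]
    ring
  obtain ⟨E⟩ := Suzuki.nonempty_equiv hm hF
  exact ⟨F, iF, iFf, m, hm, hF, ⟨((MonoidHom.ofInjective hΦinj).trans
    ((MulEquiv.subgroupCongr heq).trans (MonoidHom.ofInjective hΨinj).symm)).trans E⟩⟩

/-- A simple Zassenhaus group whose kernel is a nonabelian 2-group is a Suzuki group. -/
theorem isoSuzuki_of_zassenhaus {G Ω : Type*} [Group G] [Finite G] [MulAction G Ω] [Finite Ω]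
    [IsSimpleGroup G] (hZ : Cfsg.IsZassenhausGroup G Ω) {a b : Ω} (hab : a ≠ b) {U : Subgroup G}
    (hU : IsKernel U a) (hU2 : IsPGroup 2 U) (hna : ∃ u ∈ U, ∃ v ∈ U, u * v ≠ v * u) :
    Cfsg.Lie.IsoSuzuki G := by
  haveI := Fintype.ofFinite Ω
  exact isoSuzuki_of_evenCtx (evenCtx_of_simple hZ hab hU hU2 hna)

end Cfsg.Agent.SuzukiUniq
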