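import Mathlib

/-!
# The structure equation of a Suzuki group

For a field `F` of characteristic two and an automorphism `φ`, the functional equation satisfied by
the inversion of a Zassenhaus group with kernel of type A forces `φ ∘ φ` to be the squaring map and
determines the inversion.
-/

set_option autoImplicit false

namespace Cfsg.Agent.SuzukiUniq

variable {F : Type*} [Field F]

/-- The product of the group of type A. -/
def mul (φ : F ≃+* F) (u v : F × F) : F × F := (u.1 + v.1, u.2 + v.2 + φ u.1 * v.1)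

/-- The torus action on the group of type A. -/
def act (φ : F ≃+* F) (t : F) (u : F × F) : F × F := (t * u.1, φ t * t * u.2)

/-- The hypotheses on the inversion. -/
structure Data (φ : F ≃+* F) (l : F) (f : F × F → F × F) : Prop where
  norm : ∀ b : F, ∃ x, φ x * x = b
  nontriv : ∃ x, φ x ≠ x
  scale : ∀ (t : F) (u : F × F), t ≠ 0 → u ≠ 0 → f (act φ t u) = act φ t⁻¹ (f u)
  invol : ∀ u : F × F, u ≠ 0 → f (f u) = u
  ne_zero : ∀ u : F × F, u ≠ 0 → f u ≠ 0
  fz : f (0, 1) = (1, l)
  hz : ∀ y : F × F, y ≠ 0 → y ≠ (1, l) →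
    f (mul φ (0, 1) (f y)) = mul φ (1, l) (f (mul φ (1, l + 1) y))

variable [Finite F] [CharP F 2] {φ : F ≃+* F} {l : F} {f : F × F → F × F} (H : Data φ l f)
include H

namespace Data

theorem norm_inj {x y : F} (h : φ x * x = φ y * y) : x = y :=
  (Finite.injective_iff_surjective (f := fun x : F => φ x * x)).mpr H.norm h

theorem norm_eq_zero {x : F} (h : φ x * x = 0) : x = 0 := H.norm_inj (by rw [h, map_zero, mul_zero])

theorem norm_eq_one {x : F} (h : φ x * x = 1) : x = 1 := H.norm_inj (by rw [h, map_one, mul_one])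

theorem f_A : f (1, l) = (0, 1) := by
  rw [← H.fz]
  exact H.invol _ (fun e => one_ne_zero (congrArg Prod.snd e))

theorem f_center {s : F} (hs : s ≠ 0) : f (0, φ s * s) = (s⁻¹, φ s⁻¹ * s⁻¹ * l) := by
  have h := H.scale s (0, 1) hs fun e => one_ne_zero (congrArg Prod.snd e)
  rw [H.fz] at h
  simpa [act] using h

theorem f_one {t c : F} (ht : t ≠ 0) :
    f (t, φ t * t * c) = (t⁻¹ * (f (1, c)).1, φ t⁻¹ * t⁻¹ * (f (1, c)).2) := by
  have h := H.scale t (1, c) ht fun e => one_ne_zero (congrArg Prod.fst e)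
  simpa [act] using h

/-- The equations from the central points. -/
theorem eqn_center {x : F} (hx : x ≠ 0) :
    x * (f (1, φ x * x + l)).1 = 1 + (f (1, φ x * x + l + 1)).1 ∧
      φ x * x * (f (1, φ x * x + l)).2 =
        l + (f (1, φ x * x + l + 1)).2 + (f (1, φ x * x + l + 1)).1 := by
  have hb : φ x * x ≠ 0 := fun h => hx (H.norm_eq_zero h)
  have h := H.hz (0, φ x * x) (fun e => hb (congrArg Prod.snd e))
    fun e => zero_ne_one (congrArg Prod.fst e)
  rw [H.f_center hx] at h
  have e1 : mul φ (0, 1) (x⁻¹, φ x⁻¹ * x⁻¹ * l) = (x⁻¹, φ x⁻¹ * x⁻¹ * (φ x * x + l)) := by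
    simp only [mul, map_zero, zero_mul, add_zero, zero_add, map_inv₀]
    refine Prod.ext rfl ?_
    have : φ x ≠ 0 := by simpa using hx
    field_simp
  have e2 : mul φ (1, l + 1) (0, φ x * x) = (1, φ x * x + l + 1) := by
    simp only [mul, mul_zero, add_zero]
    exact Prod.ext rfl (by ring)
  rw [e1, e2, H.f_one (inv_ne_zero hx), inv_inv] at h
  simp only [mul, map_one, one_mul, Prod.mk.injEq] at h
  exact h

/-- The equations from the triangle of three central elements. -/
theorem eqn_triangle {x y : F} (hx : x ≠ 0) (hx1 : x ≠ 1) (hy : φ y * y = φ x * x + 1) :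
    (x + 1) * (x + y) =
      y * (f (1, ((φ x * x + 1) * l + x + 1) / ((φ x + 1) * (x + 1)))).1 := by
  have h2 : (2 : F) = 0 := CharTwo.two_eq_zero
  have hb : φ x * x ≠ 0 := fun h => hx (H.norm_eq_zero h)
  have hy0 : y ≠ 0 := by
    intro h
    rw [h, map_zero, mul_zero] at hy
    exact hx1 (H.norm_eq_one (by grind))
  have hA : ((1 : F), l) ≠ 0 := fun e => one_ne_zero (congrArg Prod.fst e)
  have hne : act φ x (1, l) ≠ 0 := fun e => hx (by simpa [act] using congrArg Prod.fst e)
  have h := H.hz (act φ x (1, l)) hne fun e => hx1 (by simpa [act] using congrArg Prod.fst e)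
  rw [H.scale x _ hx hA, H.f_A] at h
  have hu : φ x ≠ 0 := by simpa using hx
  have hv : φ y ≠ 0 := by simpa using hy0
  have e1 : mul φ (0, 1) (act φ x⁻¹ (0, 1)) = (0, φ (y / x) * (y / x)) := by
    simp only [mul, act, mul_zero, mul_one, add_zero, map_div₀, map_inv₀]
    refine Prod.ext rfl ?_
    field_simp
    linear_combination -hy
  have hx' : x + 1 ≠ 0 := fun h => hx1 (by grind)
  have hu' : φ x + 1 ≠ 0 := fun h => hx1 (φ.injective (by rw [map_one]; grind))
  have e2 : mul φ (1, l + 1) (act φ x (1, l)) =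
      (x + 1, φ (x + 1) * (x + 1) * (((φ x * x + 1) * l + x + 1) / ((φ x + 1) * (x + 1)))) := by
    simp only [mul, act, mul_one, map_one, one_mul, map_add]
    refine Prod.ext (add_comm _ _) ?_
    field_simp
    ring
  rw [e1, e2, H.f_center (div_ne_zero hy0 hx), H.f_one hx'] at h
  have h1 := congrArg Prod.fst h
  simp only [mul, inv_div] at h1
  generalize (f (1, ((φ x * x + 1) * l + x + 1) / ((φ x + 1) * (x + 1)))).1 = P at h1 ⊢
  field_simp at h1
  grind

/-- The two linear equations in `y` and `φ y`. -/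
theorem eqn_linear {x y : F} (hx : x ≠ 0) (hx1 : x ≠ 1) (hy : φ y * y = φ x * x + 1) :
    φ x * x * (x + 1 + l * (x + φ x)) * (1 + x * φ y + y * φ x) =
        x + φ x + (x + 1) * φ y + (φ x + 1) * y ∧
      (φ x * x + φ x + l * (x + φ x)) * (φ x * x + y + φ y) =
        (φ x * x) ^ 2 * (x + φ x + (x + 1) * φ y + (φ x + 1) * y) := by
  have h2 : (2 : F) = 0 := CharTwo.two_eq_zero
  have hy0 : y ≠ 0 := by
    intro h
    rw [h, map_zero, mul_zero] at hy
    exact hx1 (H.norm_eq_one (by grind))
  have hy1 : y ≠ 1 := by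
    intro h
    rw [h, map_one, mul_one] at hy
    exact hx (H.norm_eq_zero (by grind))
  have hxy : x + y ≠ 0 := fun h => by
    have : x = y := by grind
    subst this
    grind
  have hu : φ x ≠ 0 := by simpa using hx
  have hv : φ y ≠ 0 := by simpa using hy0
  have hu' : φ x + 1 ≠ 0 := fun h => hx1 (φ.injective (by rw [map_one]; grind))
  have hx' : x + 1 ≠ 0 := fun h => hx1 (by grind)
  have hy' : y + 1 ≠ 0 := fun h => hy1 (by grind)
  have hv' : φ y + 1 ≠ 0 := fun h => hy1 (φ.injective (by rw [map_one]; grind))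
  have hxy' : φ x + φ y ≠ 0 := by rw [← map_add]; exact (map_ne_zero φ).mpr hxy
  set c := ((φ x * x + 1) * l + x + 1) / ((φ x + 1) * (x + 1)) with hc
  have hP' := H.eqn_triangle hx hx1 hy
  have hP := H.eqn_triangle (x := x⁻¹) (y := y / x) (inv_ne_zero hx) (by simpa using hx1) (by
    simp only [map_inv₀, map_div₀]
    field_simp
    linear_combination hy)
  have hcd : c * ((φ x + 1) * (x + 1)) = (φ x * x + 1) * l + x + 1 := by
    rw [hc, div_mul_cancel₀ _ (mul_ne_zero hu' hx')]
  have hc' : ((φ x⁻¹ * x⁻¹ + 1) * l + x⁻¹ + 1) / ((φ x⁻¹ + 1) * (x⁻¹ + 1)) = c + 1 := by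
    have hd' : (φ x⁻¹ + 1) * (x⁻¹ + 1) = (φ x + 1) * (x + 1) / (φ x * x) := by
      rw [map_inv₀]; field_simp; ring
    rw [hd', div_div_eq_mul_div, div_eq_iff (mul_ne_zero hu' hx'), map_inv₀]
    field_simp
    linear_combination -hcd + (-1 - x) * h2
  rw [hc'] at hP
  rw [← hc] at hP'
  set p := (f (1, c + 1)).1 with hp
  set p' := (f (1, c)).1 with hp'
  have hpe : x * y * p = (x + 1) * (y + 1) := by field_simp at hP; grind
  have hp0 : p ≠ 0 := fun h => by
    rw [h, mul_zero] at hpe
    exact mul_ne_zero hx' hy' hpe.symm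
  have hp0' : p' ≠ 0 := fun h => by
    rw [h, mul_zero] at hP'
    exact mul_ne_zero hx' hxy hP'
  obtain ⟨X, hX⟩ := H.norm (c + 1 + l)
  have hX0 : X ≠ 0 := by
    intro h
    rw [h, map_zero, mul_zero] at hX
    refine hp0 ?_
    rw [hp, show c + 1 = l by linear_combination -hX - l * h2, H.f_A]
  obtain ⟨Y, hY⟩ := H.norm (c + l)
  have hY0 : Y ≠ 0 := by
    intro h
    rw [h, map_zero, mul_zero] at hY
    refine hp0' ?_
    rw [hp', show c = l by linear_combination -hY - l * h2, H.f_A]
  have hXe : X * p = 1 + p' := by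
    have := (H.eqn_center hX0).1
    rwa [hX, show c + 1 + l + l = c + 1 by linear_combination l * h2,
      show c + 1 + 1 = c by linear_combination h2] at this
  have hYe : Y * p' = 1 + p := by
    have := (H.eqn_center hY0).1
    rwa [hY, show c + l + l = c by linear_combination l * h2] at this
  have hXv : X * ((x + 1) * (y + 1)) = x * x * (x + y + 1) := by
    have : y * (X * ((x + 1) * (y + 1))) = y * (x * x * (x + y + 1)) := by
      linear_combination (-y * X) * hpe + x * y ^ 2 * hXe - x * y * hP' + x * y ^ 2 * h2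
    exact mul_left_cancel₀ hy0 this
  have hYv : Y * (x * (x + 1) * (x + y)) = x + y + 1 := by
    have : y * (Y * (x * (x + 1) * (x + y))) = y * (x + y + 1) := by
      linear_combination x * y * Y * hP' + x * y ^ 2 * hYe + y * hpe + x * y ^ 2 * h2
    exact mul_left_cancel₀ hy0 this
  have hXv' := congrArg φ hXv
  have hYv' := congrArg φ hYv
  simp only [map_mul, map_add, map_one] at hXv' hYv'
  clear_value c p p'
  set u := φ x
  set v := φ y
  clear_value u v
  constructor
  · have hA : u * x * (x + 1 + l * (x + u)) * ((x + y) * (u + v)) = (x + y + 1) * (u + v + 1) := by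
      linear_combination (u * x * (x + y) * (u + v)) * (-hcd) +
        (u * x * ((u + 1) * (x + 1)) * (x + y) * (u + v)) * (-hY) +
        (Y * (x * (x + 1) * (x + y))) * hYv' + (u + v + 1) * hYv -
        (u * x * (x + y) * (u + v) * l * (u * x + 1)) * h2
    linear_combination hA + (1 - u * x * (x + 1 + l * (x + u))) * hy +
      (u * x + 1 - u * x * (u * x) * (x + 1 + l * (x + u))) * h2
  · have hB : (u * x + u + l * (x + u)) * ((y + 1) * (v + 1)) =
        (u * x) ^ 2 * ((x + y + 1) * (u + v + 1)) := by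
      linear_combination ((y + 1) * (v + 1)) * (-hcd) +
        ((u + 1) * (x + 1) * ((y + 1) * (v + 1))) * (-hX) +
        (X * ((x + 1) * (y + 1))) * hXv' + (u * u * (u + v + 1)) * hXv -
        ((y + 1) * (v + 1) * (x + 1 + l * (u * x + 1))) * h2
    linear_combination hB + ((u * x) ^ 2 - (u * x + u + l * (x + u))) * hy +
      ((u * x) ^ 3 + (u * x) ^ 2 - (u * x + u + l * (x + u))) * h2

end Data

end Cfsg.Agent.SuzukiUniq
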