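import Cfsg.Agent.TypeA.Main
import Cfsg.Agent.SuzukiUniq.Core

/-!
# Coordinates on a Suzuki 2-group of type A compatible with a regular automorphism group

The proof of `TypeA.isTypeA`, followed by an averaging of the section over the automorphism group.
-/

set_option autoImplicit false
set_option linter.unusedSectionVars false

open Subgroup
open scoped commutatorElement

namespace Cfsg.Agent.SuzukiUniq

open Cfsg.Agent.TypeA

universe u

/-- Equivariant coordinates. -/
theorem exists_coords {P : Type u} [Group P] (hP : Cfsg.IsSuzukiTwoGroup P) (K : Subgroup (MulAut P))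
    (hK : IsCyclic K)
    (hreg : ∀ x y : P, x ≠ 1 → x * x = 1 → y ≠ 1 → y * y = 1 → ∃! k : K, (k : MulAut P) x = y)
    (hcard : Nat.card P = Nat.card (Subgroup.center P) ^ 2) :
    ∃ (F : Type) (_ : Field F) (_ : Fintype F) (_ : CharP F 2) (φ : F ≃+* F) (e : F × F ≃ P),
      Fintype.card F = Nat.card (Subgroup.center P) ∧ (∃ x, φ x ≠ x) ∧ (∀ b, ∃ x, φ x * x = b) ∧
      (∀ p q, e (mul φ p q) = e p * e q) ∧
      ∀ t : F, t ≠ 0 → ∃ k ∈ K, ∀ p, k (e p) = e (act φ t p) := by
  classical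
  obtain ⟨hinv, hexp⟩ := Cfsg.Agent.RankOne.isSuzuki_center hP
  obtain ⟨hfin, h2, ⟨xc, yc, hnc⟩, ⟨x₀, y₀, -, hx₀, hx₀2, -, -⟩, -⟩ := hP
  have : Fact (Nat.Prime 2) := ⟨Nat.prime_two⟩
  set Z := center P with hZdef
  have hcomm : ∀ {ζ : P}, ζ ∈ Z → ∀ x, x * ζ = ζ * x := fun hζ x => mem_center_iff.mp hζ x
  have hZtop : Z ≠ ⊤ := fun h => hnc (hcomm (h ▸ mem_top yc) xc)
  obtain ⟨k0, hk0⟩ := hK.exists_generator
  let k : MulAut P := k0
  have hkZ : ∀ z ∈ Z, k z ∈ Z := fun z hz => mem_center_iff.mpr fun w => by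
    rw [show w = k (k⁻¹ w) from (k.apply_symm_apply w).symm, ← map_mul, ← map_mul, hcomm hz]
  have hpow : ∀ x y : P, x ≠ 1 → x * x = 1 → y ≠ 1 → y * y = 1 → ∃ i : ℕ, (k ^ i) x = y := by
    intro x y hx hx2 hy hy2
    obtain ⟨g, hg, -⟩ := hreg x y hx hx2 hy hy2
    obtain ⟨i, rfl⟩ := (mem_powers_iff_mem_zpowers.mpr (hk0 g) : g ∈ Submonoid.powers k0)
    exact ⟨i, by simpa [k] using hg⟩
  have heqpow : ∀ z : P, z ≠ 1 → z * z = 1 → ∀ i j : ℕ, (k ^ i) z = (k ^ j) z → k ^ i = k ^ j := by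
    intro z hz hz2 i j h
    have hne : (k ^ j) z ≠ 1 := fun h' => hz ((k ^ j).injective (h'.trans (map_one _).symm))
    have h2' : (k ^ j) z * (k ^ j) z = 1 := by rw [← map_mul, hz2, map_one]
    have e := (hreg z _ hz hz2 hne h2').unique (y₁ := k0 ^ i) (y₂ := k0 ^ j) (by simpa [k] using h) (by simp [k])
    simpa [k] using congrArg (fun g : K => (g : MulAut P)) e
  -- an element whose square is a central involution
  obtain ⟨y1, hy1, hy1sq, -⟩ := Cfsg.Agent.RankOne.exists_invol_mod h2 Z hZtop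
  set z0 := y1 * y1 with hz0def
  have hz01 : z0 ≠ 1 := fun h => hy1 (hinv y1 h)
  have hz02 : z0 * z0 = 1 := hexp z0 hy1sq
  have hkiZ : ∀ (i : ℕ), ∀ z ∈ Z, (k ^ i) z ∈ Z := by
    intro i
    induction i with
    | zero => intro z hz; simpa using hz
    | succ i ih => intro z hz; rw [pow_succ']; exact hkZ _ (ih z hz)
  have hmap : Z.map k.toMonoidHom = Z := by
    refine Subgroup.eq_of_le_of_card_ge (fun z => ?_) (by rw [card_map_of_injective k.injective])
    rintro ⟨w, hw, rfl⟩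
    exact hkZ w hw
  -- the quotient
  have hq : Nat.card (P ⧸ Z) = Nat.card Z := by
    have h := Subgroup.card_eq_card_quotient_mul_card_subgroup Z
    rw [hcard, pow_two] at h
    exact (Nat.eq_of_mul_eq_mul_right Nat.card_pos h).symm
  let g : P → Z → P := fun _ z => z
  have hchoice : ∀ z : Z, ∃ i : ℕ, z ≠ 1 → (k ^ i) z0 = (z : P) := fun z => by
    by_cases hz : z = 1
    · exact ⟨0, fun h => absurd hz h⟩
    obtain ⟨i, hi⟩ := hpow z0 z hz01 hz02 (fun h => hz (Subtype.ext h)) (hexp z z.2)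
    exact ⟨i, fun _ => hi⟩
  choose idx hidx using hchoice
  let f : Z → P ⧸ Z := fun z => if z = 1 then 1 else QuotientGroup.mk ((k ^ idx z) y1)
  have hsqmk : ∀ a b : P, (QuotientGroup.mk a : P ⧸ Z) = QuotientGroup.mk b → a * a = b * b := by
    intro a b h
    have hm : a⁻¹ * b ∈ Z := QuotientGroup.eq.mp h
    have hb : b = a * (a⁻¹ * b) := by group
    rw [hb]
    calc a * a = a * a * ((a⁻¹ * b) * (a⁻¹ * b)) := by rw [hexp _ hm, mul_one]
      _ = a * (a * (a⁻¹ * b)) * (a⁻¹ * b) := by simp [mul_assoc]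
      _ = a * ((a⁻¹ * b) * a) * (a⁻¹ * b) := by rw [hcomm hm a]
      _ = _ := by simp [mul_assoc]
  have hk1y : ∀ i : ℕ, (k ^ i) y1 * (k ^ i) y1 = (k ^ i) z0 := fun i => by rw [← map_mul]
  have hfne : ∀ z : Z, z ≠ 1 → f z ≠ 1 := fun z hz h => hz (Subtype.ext (by
    simp only [f, if_neg hz] at h
    have := hsqmk _ 1 h
    rw [hk1y, hidx z hz, mul_one] at this
    exact this))
  have hfinj : Function.Injective f := by
    intro z w h
    by_cases hz : z = 1
    · subst hz
      by_contra hw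
      exact hfne w (Ne.symm hw) (h.symm.trans (by simp [f]))
    by_cases hw : w = 1
    · subst hw
      exact absurd (h.trans (by simp [f])) (hfne z hz)
    simp only [f, if_neg hz, if_neg hw] at h
    have := hsqmk _ _ h
    rw [hk1y, hk1y, hidx z hz, hidx w hw] at this
    exact Subtype.ext this
  have hfsurj : Function.Surjective f := (hfinj.bijective_of_nat_card_le hq.le).2
  have hcases : ∀ q : P ⧸ Z, q = 1 ∨ ∃ i : ℕ, QuotientGroup.mk ((k ^ i) y1) = q := fun q => by
    obtain ⟨z, rfl⟩ := hfsurj q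
    by_cases hz : z = 1
    · exact Or.inl (by simp [f, hz])
    · exact Or.inr ⟨idx z, by simp [f, hz]⟩
  have hsqZ : ∀ x : P, x * x ∈ Z := fun x => by
    rcases hcases (QuotientGroup.mk x) with h | ⟨i, hi⟩
    · rw [hsqmk x 1 (h.trans rfl), mul_one]; exact one_mem Z
    · rw [← hsqmk _ _ hi, hk1y]; exact hkiZ i _ hy1sq
  have hq2 : ∀ a : P ⧸ Z, a * a = 1 := fun a => by
    induction a using QuotientGroup.induction_on with
    | H x => exact (QuotientGroup.eq_one_iff _).mpr (hsqZ x)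
  letI : CommGroup (P ⧸ Z) :=
    { (inferInstance : Group (P ⧸ Z)) with
      mul_comm := fun a b => by
        have ha : a⁻¹ = a := inv_eq_of_mul_eq_one_left (hq2 a)
        have hb : b⁻¹ = b := inv_eq_of_mul_eq_one_left (hq2 b)
        calc a * b = (a * b)⁻¹ := (inv_eq_of_mul_eq_one_left (hq2 _)).symm
          _ = _ := by rw [mul_inv_rev, ha, hb] }
  obtain ⟨n, hn⟩ := IsPGroup.iff_card.mp (h2.to_subgroup Z)
  letI : CommGroup Z := { (inferInstance : Group Z) with mul_comm := fun a b => Subtype.ext (hcomm b.2 a) }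
  have hiterq : ∀ (i : ℕ) (x : P), (⇑(MulEquiv.toAdditive (QuotientGroup.congr Z Z k hmap)))^[i]
      (Additive.ofMul (QuotientGroup.mk x : P ⧸ Z)) = Additive.ofMul (QuotientGroup.mk ((k ^ i) x) : P ⧸ Z) := by
    intro i x
    induction i with
    | zero => simp
    | succ i ih => rw [Function.iterate_succ_apply', ih, pow_succ']; rfl
  let kh : ↥Z →* ↥Z := MonoidHom.mk' (fun z : ↥Z => (⟨k z, hkZ z z.2⟩ : ↥Z))
    fun a b => Subtype.ext (map_mul k (a : P) b)
  let kZ : ↥Z ≃* ↥Z := MulEquiv.ofBijective kh ⟨fun a b h => Subtype.ext (k.injective (congrArg Subtype.val h)),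
    Finite.surjective_of_injective fun a b h => Subtype.ext (k.injective (congrArg Subtype.val h))⟩
  have hiterZ : ∀ (i : ℕ) (z : Z), ((Additive.toMul ((⇑(MulEquiv.toAdditive kZ))^[i] (Additive.ofMul z)) : Z) : P) =
      (k ^ i) (z : P) := by
    intro i z
    induction i with
    | zero => simp
    | succ i ih => rw [Function.iterate_succ_apply', pow_succ', MulAut.mul_apply, ← ih]; rfl --
  have hn0 : n ≠ 0 := by
    rintro rfl
    rw [pow_zero, Nat.card_eq_one_iff_unique] at hn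
    exact hz01 (congrArg Subtype.val (hn.1.elim (⟨z0, hy1sq⟩ : Z) 1))
  obtain ⟨F, iF, iFt, hchar, hqF⟩ : ∃ (F : Type) (_ : Field F) (_ : Fintype F), CharP F 2 ∧ Fintype.card F = 2 ^ n :=
    letI := Fintype.ofFinite (GaloisField 2 n)
    ⟨GaloisField 2 n, inferInstance, inferInstance, inferInstance, by
      rw [← Nat.card_eq_fintype_card, GaloisField.card 2 n hn0]⟩
  let v0 : Additive (P ⧸ Z) := Additive.ofMul (QuotientGroup.mk y1)
  let w0 : Additive Z := Additive.ofMul ⟨z0, hy1sq⟩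
  obtain ⟨L, ω, hL0, hω0, hLk⟩ := field_model (MulEquiv.toAdditive (QuotientGroup.congr Z Z k hmap)) v0
    (fun h => hy1 ((QuotientGroup.eq_one_iff _).mp (congrArg Additive.toMul h)))
    (fun v hv => by
      rcases hcases (Additive.toMul v) with h | ⟨i, hi⟩
      · exact absurd (congrArg Additive.ofMul h) hv
      · exact ⟨i, (hiterq i y1).trans (congrArg Additive.ofMul hi)⟩)
    (fun v => congrArg Additive.ofMul (hq2 (Additive.toMul v))) (F := F)
    ((Nat.card_congr Additive.toMul).trans (hq.trans (hn.trans hqF.symm)))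
  obtain ⟨L', ω', hL'0, hω'0, hL'k⟩ := field_model (MulEquiv.toAdditive kZ) w0
    (fun h => hz01 (congrArg (fun w : Additive Z => ((Additive.toMul w : Z) : P)) h))
    (fun v hv => by
      obtain ⟨i, hi⟩ := hpow z0 (Additive.toMul v : Z) hz01 hz02
        (fun h => hv (congrArg Additive.ofMul (Subtype.ext h : (Additive.toMul v : Z) = 1))) (hexp _ (Additive.toMul v).2)
      exact ⟨i, Additive.toMul.injective (Subtype.ext ((hiterZ i ⟨z0, hy1sq⟩).trans hi))⟩)
    (fun v => congrArg Additive.ofMul (Subtype.ext (hexp _ (Additive.toMul v).2) : (Additive.toMul v : Z) * Additive.toMul v = 1))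
    (F := F) ((Nat.card_congr Additive.toMul).trans (hn.trans hqF.symm))
  let π : P → F := fun x => L (Additive.ofMul (QuotientGroup.mk x))
  let ι : F → P := fun a => ((Additive.toMul (L'.symm a) : Z) : P)
  have hπ : ∀ x y, π (x * y) = π x + π y := fun x y => by simp only [π]; rw [← map_add]; rfl
  have hπ_eq : ∀ x y, π x = π y → (QuotientGroup.mk x : P ⧸ Z) = QuotientGroup.mk y := fun x y h =>
    Additive.ofMul.injective (L.injective h)
  have hπ1 : π 1 = 0 := map_zero L
  have hι : ∀ a b, ι (a + b) = ι a * ι b := fun a b => by simp only [ι, map_add]; rfl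
  have hιinj : Function.Injective ι := fun a b h =>
    L'.symm.injective (Additive.toMul.injective (Subtype.ext h))
  have hι0 : ι 0 = 1 := by simp only [ι, map_zero]; rfl
  have hπk : ∀ i, π ((k ^ i) y1) = ω ^ i := by
    intro i
    induction i with
    | zero => simpa [π] using hL0
    | succ i ih =>
      rw [pow_succ' ω, ← ih, pow_succ']
      show L ((MulEquiv.toAdditive (QuotientGroup.congr Z Z k hmap)) (Additive.ofMul (QuotientGroup.mk ((k ^ i) y1) : P ⧸ Z))) = _
      exact hLk _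
  have hιk : ∀ i, ι (ω' ^ i) = (k ^ i) z0 := by
    intro i
    have h : L' ((⇑(MulEquiv.toAdditive kZ))^[i] w0) = ω' ^ i := by
      induction i with
      | zero => simpa using hL'0
      | succ i ih => rw [Function.iterate_succ_apply', hL'k, ih, pow_succ']
    show ((Additive.toMul (L'.symm _) : Z) : P) = _
    rw [← h, AddEquiv.symm_apply_apply]
    exact hiterZ i ⟨z0, hy1sq⟩
  have hclass : ∀ x : P, π x = 0 ∧ x * x = 1 ∨ ∃ i : ℕ, π x = ω ^ i ∧ x * x = ι (ω' ^ i) := fun x => by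
    rcases hcases (QuotientGroup.mk x) with h | ⟨i, hi⟩
    · refine Or.inl ⟨?_, by rw [hsqmk x 1 (h.trans rfl), mul_one]⟩
      show L (Additive.ofMul (QuotientGroup.mk x : P ⧸ Z)) = 0
      rw [h]; exact map_zero L
    · refine Or.inr ⟨i, ?_, by rw [← hsqmk _ _ hi, hk1y, hιk]⟩
      rw [← hπk i]
      show L (Additive.ofMul (QuotientGroup.mk x : P ⧸ Z)) = L (Additive.ofMul (QuotientGroup.mk ((k ^ i) y1) : P ⧸ Z))
      rw [hi]
  have hπsurj : Function.Surjective π := fun a => by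
    obtain ⟨x, hx⟩ := QuotientGroup.mk_surjective (Additive.toMul (L.symm a))
    exact ⟨x, by show L _ = a; rw [hx]; exact L.apply_symm_apply a⟩
  -- every non-zero element is a power of ω
  have hωgen : ∀ a : F, a ≠ 0 → ∃ i : ℕ, ω ^ i = a := fun a ha => by
    obtain ⟨x, rfl⟩ := hπsurj a
    rcases hclass x with ⟨h, -⟩ | ⟨i, h, -⟩
    · exact absurd h ha
    · exact ⟨i, h.symm⟩
  obtain ⟨i0, hi0⟩ := hωgen ω' hω'0
  have hωq : ω ^ (Fintype.card F - 1) = 1 := FiniteField.pow_card_sub_one_eq_one ω hω0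
  have hF2 : 2 ≤ Fintype.card F := Fintype.one_lt_card
  obtain ⟨e, he0, heq, heω⟩ : ∃ e, 0 < e ∧ e < Fintype.card F ∧ ω ^ e = ω' := by
    have hmod : ω ^ (i0 % (Fintype.card F - 1)) = ω' := by
      rw [← hi0]
      conv_rhs => rw [← Nat.mod_add_div i0 (Fintype.card F - 1), pow_add, pow_mul, hωq, one_pow, mul_one]
    by_cases h : i0 % (Fintype.card F - 1) = 0
    · exact ⟨Fintype.card F - 1, by omega, by omega, by rw [hωq, ← hmod, h, pow_zero]⟩
    · exact ⟨_, Nat.pos_of_ne_zero h, by have := Nat.mod_lt i0 (show Fintype.card F - 1 > 0 by omega); omega, hmod⟩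
  have hM : ∀ x, x * x = ι ((π x) ^ e) := fun x => by
    rcases hclass x with ⟨h, h'⟩ | ⟨i, h, h'⟩
    · rw [h, h', zero_pow (by omega), hι0]
    · rw [h, h', ← pow_mul, mul_comm, pow_mul, heω]
  have hcen : ∀ (a : F) (x : P), x * ι a = ι a * x := fun a x => hcomm (Additive.toMul (L'.symm a) : Z).2 x
  have hιι : ∀ a, ι a * ι a = 1 := fun a => by rw [← hι, CharTwo.add_self_eq_zero, hι0]
  -- the polar form
  let c : F → F → F := fun a b => (a + b) ^ e + a ^ e + b ^ e
  have hyx : ∀ x y, y * x = x * y * ι (c (π x) (π y)) := by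
    intro x y
    have hxi : x⁻¹ = x * ι (π x ^ e) := inv_eq_of_mul_eq_one_right (by rw [← mul_assoc, hM, hιι])
    have hyi : y⁻¹ = y * ι (π y ^ e) := inv_eq_of_mul_eq_one_right (by rw [← mul_assoc, hM, hιι])
    have h3 : y * x = x⁻¹ * ι (π (x * y) ^ e) * y⁻¹ := by rw [← hM]; group
    rw [h3, hxi, hyi, mul_assoc x (ι _) (ι _), ← hι, mul_assoc x, ← mul_assoc (ι _) y (ι _),
      ← hcen _ y, mul_assoc y, ← hι, ← mul_assoc, hπ]
    congr 2
    simp only [c]
    ring
  have hbil : ∀ a b w : F, c (a + b) w = c a w + c b w := by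
    intro a b w
    obtain ⟨x, rfl⟩ := hπsurj a
    obtain ⟨x', rfl⟩ := hπsurj b
    obtain ⟨y, rfl⟩ := hπsurj w
    apply hιinj
    have h1 := hyx (x * x') y
    rw [hπ] at h1
    rw [← mul_assoc, hyx x y, mul_assoc (x * y), ← hcen _ x', ← mul_assoc, mul_assoc x y x', hyx x' y] at h1
    simp only [mul_assoc, ← hι] at h1
    rw [mul_right_inj, mul_right_inj, mul_right_inj] at h1
    rw [← h1, add_comm (c (π x') (π y))]
  have hquad : ∀ x y w : F, (x + y + w) ^ e + (x + y) ^ e + (x + w) ^ e + (y + w) ^ e + x ^ e + y ^ e + w ^ e = 0 := by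
    intro x y w
    have h := hbil x y w
    simp only [c] at h
    calc _ = ((x + y + w) ^ e + (x + y) ^ e + w ^ e) + ((x + w) ^ e + x ^ e + w ^ e + ((y + w) ^ e + y ^ e + w ^ e)) -
          w ^ e - w ^ e := by ring
      _ = 0 := by
        rw [h, CharTwo.add_self_eq_zero, zero_sub, CharTwo.sub_eq_add, CharTwo.neg_eq, CharTwo.add_self_eq_zero]
  rcases exists_of_quadratic he0 heq hquad with ⟨t, ht⟩ | ⟨i, d, hd, he⟩
  · exfalso
    refine hnc ?_
    rw [hyx xc yc]
    simp only [c, ht, add_pow_char_pow]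
    rw [show π xc ^ 2 ^ t + π yc ^ 2 ^ t + π xc ^ 2 ^ t + π yc ^ 2 ^ t =
      (π xc ^ 2 ^ t + π xc ^ 2 ^ t) + (π yc ^ 2 ^ t + π yc ^ 2 ^ t) by ring, CharTwo.add_self_eq_zero,
      CharTwo.add_self_eq_zero, add_zero, hι0, mul_one]
  -- the automorphism
  let φ : F ≃+* F := iterateFrobeniusEquiv F 2 d
  have hφ : ∀ a, φ a = a ^ 2 ^ d := fun a => iterateFrobeniusEquiv_def F 2 d a
  let ι2 : F → P := fun b => ι (b ^ 2 ^ i)
  have hι2 : ∀ a b, ι2 (a + b) = ι2 a * ι2 b := fun a b => by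
    show ι ((a + b) ^ 2 ^ i) = _
    rw [add_pow_char_pow, hι]
  let β : F →+ F →+ F := AddMonoidHom.mul.comp φ.toRingHom.toAddMonoidHom
  have hβ : ∀ a b, β a b = φ a * b := fun a b => rfl
  have hQ : ∀ x, x * x = ι2 (β (π x) (π x)) := fun x => by
    rw [hM x, hβ, hφ, ← pow_succ]
    show ι _ = ι _
    rw [← pow_mul, he, mul_comm]
  have hπι : ∀ a, π (ι a) = 0 := fun a => by
    show L (Additive.ofMul (QuotientGroup.mk (ι a) : P ⧸ Z)) = 0
    rw [(QuotientGroup.eq_one_iff _).mpr (Additive.toMul (L'.symm a) : Z).2]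
    exact map_zero L
  obtain ⟨s, hs1, hs2⟩ := exists_section (fun v : F => CharTwo.add_self_eq_zero v) π hπ hπsurj ι2 hι2
    CharTwo.add_self_eq_zero (fun a x => hcen _ x) (fun a => hπι _) β hQ
  have hι2inj : Function.Injective ι2 := fun a b h => by
    have := hιinj h
    exact (iterateFrobeniusEquiv F 2 i).injective (by rw [iterateFrobeniusEquiv_def, iterateFrobeniusEquiv_def]; exact this)
  -- injectivity of the norm map and the order of φ
  have hinjM : ∀ u : F, u ≠ 0 → u ^ e = 1 → u = 1 := by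
    intro u hu hue
    obtain ⟨j, rfl⟩ := hωgen u hu
    have h1 : (k ^ j) z0 = (k ^ 0) z0 := by
      rw [← hιk, ← hιk, pow_zero, ← hue, ← heω, ← pow_mul, ← pow_mul, mul_comm]
    rw [← hπk, heqpow z0 hz01 hz02 j 0 h1, hπk, pow_zero]
  have hωord : orderOf ω = Fintype.card F - 1 := by
    refine Nat.le_antisymm (orderOf_le_of_pow_eq_one (by omega) hωq) ?_
    have hsub : (Finset.univ.filter fun a : F => a ≠ 0) ⊆ (Finset.range (orderOf ω)).image (ω ^ ·) := by
      intro a ha
      obtain ⟨j, rfl⟩ := hωgen a (Finset.mem_filter.mp ha).2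
      refine Finset.mem_image.mpr ⟨j % orderOf ω, Finset.mem_range.mpr (Nat.mod_lt _ (orderOf_pos_iff.mpr ?_)),
        pow_mod_orderOf ω j⟩
      exact isOfFinOrder_iff_pow_eq_one.mpr ⟨_, by omega, hωq⟩
    have h := (Finset.card_le_card hsub).trans Finset.card_image_le
    rw [Finset.card_range, Finset.filter_ne', Finset.card_erase_of_mem (Finset.mem_univ _), Finset.card_univ] at h
    exact h
  have hφid : φ ≠ RingEquiv.refl F := by
    intro h
    refine hnc ?_
    rw [hyx xc yc]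
    have hsimp : c (π xc) (π yc) = 0 := by
      have hd1 : ∀ a : F, a ^ 2 ^ d = a := fun a => by rw [← hφ, h]; rfl
      simp only [c, he, pow_mul _ (2 ^ i), pow_succ, hd1]
      simp only [← mul_pow, CharTwo.add_mul_self, add_pow_char_pow]
      rw [show (π xc * π xc) ^ 2 ^ i + (π yc * π yc) ^ 2 ^ i + (π xc * π xc) ^ 2 ^ i + (π yc * π yc) ^ 2 ^ i =
        ((π xc * π xc) ^ 2 ^ i + (π xc * π xc) ^ 2 ^ i) + ((π yc * π yc) ^ 2 ^ i + (π yc * π yc) ^ 2 ^ i) by ring,
        CharTwo.add_self_eq_zero, CharTwo.add_self_eq_zero, add_zero]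
    rw [hsimp, hι0, mul_one]
  have hπk' : ∀ x, π (k x) = ω * π x := fun x =>
    hLk (Additive.ofMul (QuotientGroup.mk x : P ⧸ Z))
  have hιk' : ∀ a, k (ι a) = ι (ω' * a) := fun a => by
    have h := hL'k (L'.symm a)
    rw [AddEquiv.apply_symm_apply] at h
    show k _ = ((Additive.toMul (L'.symm (ω' * a)) : Z) : P)
    rw [← h, AddEquiv.symm_apply_apply]
    rfl
  set Ω := φ ω * ω with hΩ
  have hΩe : ω' = Ω ^ 2 ^ i := by
    rw [← heω, he, hΩ, hφ, ← pow_succ, ← pow_mul, mul_comm]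
  have hι2k : ∀ b, k (ι2 b) = ι2 (Ω * b) := fun b => by
    show k (ι _) = ι _
    rw [hιk', mul_pow, hΩe]
  have hι2surj : ∀ x, π x = 0 → ∃ b, ι2 b = x := fun x hx => by
    have hxZ : x ∈ Z := (QuotientGroup.eq_one_iff x).mp (hπ_eq x 1 (hx.trans hπ1.symm))
    obtain ⟨b, hb⟩ := (iterateFrobeniusEquiv F 2 i).surjective (L' (Additive.ofMul (⟨x, hxZ⟩ : Z)))
    rw [iterateFrobeniusEquiv_def] at hb
    refine ⟨b, ?_⟩
    show ((Additive.toMul (L'.symm _) : Z) : P) = x
    rw [hb, AddEquiv.symm_apply_apply]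
    rfl
  have hι20 : ι2 0 = 1 := by
    have h := hι2 0 0
    rw [add_zero] at h
    exact mul_eq_left.mp h.symm
  have hkj : ∀ (j : ℕ) (b : F), (k ^ j) (ι2 b) = ι2 (Ω ^ j * b) := fun j => by
    induction j with
    | zero => intro b; simp
    | succ j ih => intro b; rw [pow_succ' k, MulAut.mul_apply, ih, hι2k]; congr 1; ring
  have hπkj : ∀ (j : ℕ) (x : P), π ((k ^ j) x) = ω ^ j * π x := fun j => by
    induction j with
    | zero => intro x; simp
    | succ j ih => intro x; rw [pow_succ' k, MulAut.mul_apply, hπk', ih, pow_succ', mul_assoc]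
  have hωj : ∀ j : ℕ, ω ^ j ≠ 0 := fun j => pow_ne_zero _ hω0
  set N := Fintype.card F - 1 with hN
  have hkN : k ^ N = 1 := by
    refine heqpow z0 hz01 hz02 N 0 ?_ |>.trans (pow_zero _)
    rw [← hιk, ← hιk, pow_zero, ← heω, ← pow_mul, mul_comm, pow_mul, hN, hωq, one_pow]
  -- averaging the section
  have hδex : ∀ (j : ℕ) (a : F), ∃ d, (k ^ j) (s ((ω ^ j)⁻¹ * a)) = s a * ι2 d := fun j a => by
    obtain ⟨d, hd⟩ := hι2surj ((s a)⁻¹ * (k ^ j) (s ((ω ^ j)⁻¹ * a))) (by
      have h1 : π (s a) + π (s a)⁻¹ = 0 := by rw [← hπ, mul_inv_cancel, hπ1]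
      rw [hπ, hπkj, hs1, ← mul_assoc, mul_inv_cancel₀ (hωj j), one_mul]
      rw [hs1] at h1
      exact (add_comm _ _).trans h1)
    exact ⟨d, by rw [hd, mul_inv_cancel_left]⟩
  choose δ hδ using hδex
  have hδadd : ∀ j a b, δ j (a + b) = δ j a + δ j b := fun j a b => by
    have h := hs2 ((ω ^ j)⁻¹ * a) ((ω ^ j)⁻¹ * b)
    apply_fun (k ^ j) at h
    rw [map_mul, map_mul, ← mul_add, hδ, hδ, hδ, hkj, hβ] at h
    have e1 : Ω ^ j * (φ ((ω ^ j)⁻¹ * a) * ((ω ^ j)⁻¹ * b)) = φ a * b := by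
      have hφω : φ ω ≠ 0 := (map_ne_zero φ).mpr hω0
      rw [map_mul, map_inv₀, map_pow, hΩ, mul_pow]
      field_simp
    rw [e1, mul_assoc (s a), ← mul_assoc (ι2 _) (s b), ← hcen _ (s b)] at h
    simp only [← mul_assoc] at h
    rw [hs2, hβ] at h
    simp only [mul_assoc, mul_right_inj] at h
    rw [← hι2, ← hι2, ← hι2] at h
    have := hι2inj h
    linear_combination -this
  have hδ0 : ∀ a, δ 0 a = 0 := fun a => by
    refine hι2inj ?_
    rw [hι20]
    have h := hδ 0 a
    simp only [pow_zero, inv_one, one_mul, MulAut.one_apply] at h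
    exact mul_eq_left.mp h.symm
  have hδN : ∀ a, δ N a = 0 := fun a => by
    refine hι2inj ?_
    rw [hι20]
    have h := hδ N a
    rw [hkN, hωq, inv_one, one_mul, MulAut.one_apply] at h
    exact mul_eq_left.mp h.symm
  have hδsucc : ∀ j a, δ (j + 1) a = δ 1 a + Ω * δ j (ω⁻¹ * a) := fun j a => by
    refine hι2inj ?_
    rw [hι2]
    refine mul_left_cancel (a := s a) ?_
    rw [← hδ, ← mul_assoc, ← hδ 1 a, pow_one, pow_one, pow_succ' k, MulAut.mul_apply,
      show (ω ^ (j + 1))⁻¹ * a = (ω ^ j)⁻¹ * (ω⁻¹ * a) by rw [pow_succ, mul_inv, mul_assoc],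
      hδ j, map_mul, hι2k]
  let Δ : F → F := fun a => ∑ j ∈ Finset.range N, δ j a
  have hΔadd : ∀ a b, Δ (a + b) = Δ a + Δ b := fun a b => by
    simp only [Δ, hδadd, Finset.sum_add_distrib]
  have hshift : ∀ a, ∑ j ∈ Finset.range N, δ (j + 1) a = Δ a := fun a => by
    have h := Finset.sum_range_succ (fun j => δ j a) N
    rw [Finset.sum_range_succ'] at h
    simp only [hδ0, hδN, add_zero] at h
    exact h
  have hNodd : (N : F) = 1 := by
    have h1 : (N : F) + 1 = (Fintype.card F : F) := by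
      rw [hN, ← Nat.cast_add_one, Nat.sub_add_cancel (by omega)]
    rw [FiniteField.cast_card_eq_zero] at h1
    exact (eq_neg_of_add_eq_zero_left h1).trans (CharTwo.neg_eq 1)
  have hΔk : ∀ a, δ 1 a + Ω * Δ (ω⁻¹ * a) = Δ a := fun a => by
    have h : ∑ j ∈ Finset.range N, δ (j + 1) a =
        ∑ j ∈ Finset.range N, (δ 1 a + Ω * δ j (ω⁻¹ * a)) := Finset.sum_congr rfl fun j _ => hδsucc j a
    rw [hshift, Finset.sum_add_distrib, Finset.sum_const, Finset.card_range, nsmul_eq_mul, hNodd,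
      one_mul, ← Finset.mul_sum] at h
    exact h.symm
  let s' : F → P := fun a => s a * ι2 (Δ a)
  have hs1' : ∀ a, π (s' a) = a := fun a => by
    show π (s a * ι _) = a
    rw [hπ, hs1, hπι, add_zero]
  have hs2' : ∀ a b, s' a * s' b = s' (a + b) * ι2 (φ a * b) := fun a b => by
    show s a * ι2 (Δ a) * (s b * ι2 (Δ b)) = s (a + b) * ι2 (Δ (a + b)) * ι2 (φ a * b)
    rw [mul_assoc (s a), ← mul_assoc (ι2 _) (s b), ← hcen _ (s b)]
    change s a * (s b * ι2 (Δ a) * ι2 (Δ b)) = _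
    simp only [← mul_assoc]
    rw [hs2, hβ]
    simp only [mul_assoc, ← hι2]
    congr 2
    rw [hΔadd]
    ring
  have hks' : ∀ a, k (s' a) = s' (ω * a) := fun a => by
    show k (s a * ι2 (Δ a)) = s (ω * a) * ι2 (Δ (ω * a))
    have h1 := hδ 1 (ω * a)
    rw [pow_one, pow_one, ← mul_assoc, inv_mul_cancel₀ hω0, one_mul] at h1
    rw [map_mul, h1, hι2k, mul_assoc, ← hι2]
    congr 2
    have h2' := hΔk (ω * a)
    rw [← mul_assoc, inv_mul_cancel₀ hω0, one_mul] at h2'
    exact h2'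
  let θ : F × F → P := fun ab => s' ab.1 * ι2 ab.2
  have hθmul : ∀ a b, θ (mul φ a b) = θ a * θ b := fun a b => by
    show s' (a.1 + b.1) * ι2 (a.2 + b.2 + φ a.1 * b.1) = s' a.1 * ι2 a.2 * (s' b.1 * ι2 b.2)
    rw [mul_assoc (s' a.1), ← mul_assoc (ι2 a.2), ← hcen, ← mul_assoc, ← mul_assoc, hs2']
    change _ = s' (a.1 + b.1) * ι2 (φ a.1 * b.1) * ι2 a.2 * ι2 b.2
    simp only [mul_assoc, ← hι2]
    congr 2
    ring
  have hθk : ∀ a, k (θ a) = θ (act φ ω a) := fun a => by
    simp only [θ, act]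
    rw [map_mul, hks', hι2k]
  have hθinj : Function.Injective θ := by
    intro a b h
    have h1 : π (θ a) = π (θ b) := congrArg π h
    simp only [θ, hπ, hs1', ι2, hπι, add_zero] at h1
    simp only [θ, h1, mul_right_inj] at h
    exact Prod.ext h1 (hι2inj h)
  have hθbij : Function.Bijective θ := hθinj.bijective_of_nat_card_le (le_of_eq (by
    rw [hcard, hn, Nat.card_prod, Nat.card_eq_fintype_card, hqF, pow_two]))
  have hθkj : ∀ (j : ℕ) a, (k ^ j) (θ a) = θ (act φ (ω ^ j) a) := fun j => by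
    induction j with
    | zero => intro a; simp [act]
    | succ j ih =>
      intro a
      rw [pow_succ' k, MulAut.mul_apply, ih, hθk]
      congr 1
      simp only [act, map_mul, map_pow, pow_succ]
      exact Prod.ext (by ring) (by ring)
  refine ⟨F, inferInstance, inferInstance, inferInstance, φ, Equiv.ofBijective θ hθbij,
    hqF.trans hn.symm, ?_, ?_, hθmul, fun t ht => ?_⟩
  · by_contra hcon
    push Not at hcon
    exact hφid (RingEquiv.ext hcon)
  · have hpm : ∀ x, (φ x * x) ^ 2 ^ i = x ^ e := fun x => by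
      rw [he, hφ, ← pow_succ, ← pow_mul, mul_comm]
    refine (Finite.injective_iff_surjective (f := fun x : F => φ x * x)).mp fun x y hxy => ?_
    have hxy' : x ^ e = y ^ e := by
      rw [← hpm, ← hpm]; exact congrArg (fun z : F => z ^ 2 ^ i) hxy
    by_cases hy0 : y = 0
    · subst hy0
      rw [zero_pow (by omega)] at hxy'
      exact eq_zero_of_pow_eq_zero hxy'
    · have hx0 : x ≠ 0 := by
        rintro rfl
        rw [zero_pow (by omega)] at hxy'
        exact hy0 (eq_zero_of_pow_eq_zero hxy'.symm)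
      have := hinjM (x / y) (div_ne_zero hx0 hy0) (by rw [div_pow, hxy', div_self (pow_ne_zero _ hy0)])
      exact (div_eq_one_iff_eq hy0).mp this
  · obtain ⟨j, rfl⟩ := hωgen t ht
    exact ⟨k ^ j, pow_mem k0.2 j, hθkj j⟩

end Cfsg.Agent.SuzukiUniq
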