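import Mathlib

/-!
# An identity in characteristic two
-/

set_option autoImplicit false

namespace Cfsg.Agent.SuzukiUniq

variable {F : Type*} [Field F]

/-- The first linear coefficient. -/
def cL0 (x u l : F) : F := x + 1 + l * (x + u)

/-- The second linear coefficient. -/
def cL1 (x u l : F) : F := u * x + u + l * (x + u)

/-- The determinant. -/
def cD (x u l : F) : F :=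
  (x + u) * (u * x * cL0 x u l * cL1 x u l + (u * x) ^ 3 * cL0 x u l + cL1 x u l)

/-- The numerator of `y`. -/
def cNy (x u l : F) : F :=
  u * x * cL0 x u l * cL1 x u l * (1 + u * x * x) + (u * x) ^ 3 * cL0 x u l * (x + 1 + x * (x + u)) +
    cL1 x u l * (x + u + u * x * (x + 1))

/-- The numerator of `φ y`. -/
def cNv (x u l : F) : F :=
  u * x * cL0 x u l * cL1 x u l * (1 + u * x * u) + (u * x) ^ 3 * cL0 x u l * (u + 1 + u * (x + u)) +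
    cL1 x u l * (x + u + u * x * (u + 1))

/-- The coefficient of `l`. -/
def cC (x u : F) : F := (x + u) ^ 2 * ((x + u) * (1 + u * x) + u * x)

/-- The factor which obstructs `l ∉ {0, 1}`. -/
def cR (x u l : F) : F :=
  (u + u * x * x) ^ 2 + u * x * (x + u) * (1 + (x + u) + u * x) + l * cC x u +
    l ^ 2 * (cC x u + (x + u) ^ 2 * (1 + u * x) ^ 2)

set_option maxHeartbeats 2000000 in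
theorem poly_ident (x u l : F) (h2 : (2 : F) = 0) :
    cNy x u l * cNv x u l + (u * x + 1) * cD x u l ^ 2 =
      (l + l ^ 2) * (u * x) ^ 2 * ((u + 1) * (x + 1)) * (x + u) ^ 2 * cR x u l := by
  simp only [cNy, cNv, cD, cR, cC, cL0, cL1]
  linear_combination
    (u^4 + 2 * u^4*l + u^4*l^2 + 2 * x*u^3 + 6 * x*u^3*l + 4 * x*u^3*l^2 + 4 * x*u^4 + 6 *
      x*u^4*l + 2 * x*u^4*l^2 + 2 * x*u^5 + 5 * x*u^5*l + 4 * x*u^5*l^2 + x*u^5*l^3 + x*u^6*l +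
      2 * x*u^6*l^2 + x*u^6*l^3 + x^2*u^2 + 6 * x^2*u^2*l + 6 * x^2*u^2*l^2 + 6 * x^2*u^3 + 14 *
      x^2*u^3*l + 6 * x^2*u^3*l^2 + 12 * x^2*u^4 + 24 * x^2*u^4*l + 17 * x^2*u^4*l^2 + 4 *
      x^2*u^4*l^3 + 6 * x^2*u^5 + 15 * x^2*u^5*l + 16 * x^2*u^5*l^2 + 7 * x^2*u^5*l^3 + 2 *
      x^2*u^6 + 6 * x^2*u^6*l + 5 * x^2*u^6*l^2 + x^2*u^6*l^3 + 2 * x^2*u^7*l + 4 * x^2*u^7*l^2
      + x^2*u^7*l^3 - x^2*u^7*l^4 + 2 * x^3*u*l + 4 * x^3*u*l^2 + 2 * x^3*u^2 + 10 * x^3*u^2*l +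
      6 * x^3*u^2*l^2 + 9 * x^3*u^3 + 29 * x^3*u^3*l + 25 * x^3*u^3*l^2 + 6 * x^3*u^3*l^3 + 21 *
      x^3*u^4 + 41 * x^3*u^4*l + 35 * x^3*u^4*l^2 + 16 * x^3*u^4*l^3 + 12 * x^3*u^5 + 31 *
      x^3*u^5*l + 26 * x^3*u^5*l^2 + 4 * x^3*u^5*l^3 + 9 * x^3*u^6 + 21 * x^3*u^6*l + 22 *
      x^3*u^6*l^2 + 6 * x^3*u^6*l^3 - 5 * x^3*u^6*l^4 + x^3*u^7 + 9 * x^3*u^7*l + 9 *
      x^3*u^7*l^2 - x^3*u^7*l^3 - 2 * x^3*u^7*l^4 + x^3*u^8*l + 2 * x^3*u^8*l^2 - x^3*u^8*l^3 -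
      2 * x^3*u^8*l^4 + x^4*l^2 + 2 * x^4*u*l + 2 * x^4*u*l^2 + x^4*u^2 + 10 * x^4*u^2*l + 15 *
      x^4*u^2*l^2 + 4 * x^4*u^2*l^3 + 9 * x^4*u^3 + 35 * x^4*u^3*l + 31 * x^4*u^3*l^2 + 16 *
      x^4*u^3*l^3 + 21 * x^4*u^4 + 45 * x^4*u^4*l + 42 * x^4*u^4*l^2 + 6 * x^4*u^4*l^3 + 25 *
      x^4*u^5 + 56 * x^4*u^5*l + 45 * x^4*u^5*l^2 + 13 * x^4*u^5*l^3 - 10 * x^4*u^5*l^4 + 19 *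
      x^4*u^6 + 45 * x^4*u^6*l + 39 * x^4*u^6*l^2 - 4 * x^4*u^6*l^3 - 8 * x^4*u^6*l^4 + 6 *
      x^4*u^7 + 20 * x^4*u^7*l + 17 * x^4*u^7*l^2 - 3 * x^4*u^7*l^3 - 10 * x^4*u^7*l^4 + 7 *
      x^4*u^8*l + 8 * x^4*u^8*l^2 - x^4*u^8*l^3 - 2 * x^4*u^8*l^4 + 2 * x^4*u^9*l^2 +
      x^4*u^9*l^3 - x^4*u^9*l^4 + 3 * x^5*u*l^2 + x^5*u*l^3 + 8 * x^5*u^2*l + 11 * x^5*u^2*l^2 +
      7 * x^5*u^2*l^3 + 5 * x^5*u^3 + 22 * x^5*u^3*l + 26 * x^5*u^3*l^2 + 4 * x^5*u^3*l^3 + 17 *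
      x^5*u^4 + 51 * x^5*u^4*l + 42 * x^5*u^4*l^2 + 13 * x^5*u^4*l^3 - 10 * x^5*u^4*l^4 + 35 *
      x^5*u^5 + 69 * x^5*u^5*l + 59 * x^5*u^5*l^2 - 6 * x^5*u^5*l^3 - 12 * x^5*u^5*l^4 + 30 *
      x^5*u^6 + 63 * x^5*u^6*l + 41 * x^5*u^6*l^2 - 4 * x^5*u^6*l^3 - 20 * x^5*u^6*l^4 + 13 *
      x^5*u^7 + 40 * x^5*u^7*l + 37 * x^5*u^7*l^2 - 4 * x^5*u^7*l^3 - 8 * x^5*u^7*l^4 + x^5*u^8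
      + 14 * x^5*u^8*l + 17 * x^5*u^8*l^2 + 6 * x^5*u^8*l^3 - 5 * x^5*u^8*l^4 + 2 * x^5*u^9*l +
      5 * x^5*u^9*l^2 + x^5*u^9*l^3 + x^5*u^10*l^2 + x^5*u^10*l^3 + x^6*u*l^2 + x^6*u*l^3 + 2 *
      x^6*u^2*l + 5 * x^6*u^2*l^2 + x^6*u^2*l^3 + x^6*u^3 + 14 * x^6*u^3*l + 17 * x^6*u^3*l^2 +
      6 * x^6*u^3*l^3 - 5 * x^6*u^3*l^4 + 13 * x^6*u^4 + 40 * x^6*u^4*l + 37 * x^6*u^4*l^2 - 4 *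
      x^6*u^4*l^3 - 8 * x^6*u^4*l^4 + 30 * x^6*u^5 + 63 * x^6*u^5*l + 41 * x^6*u^5*l^2 - 4 *
      x^6*u^5*l^3 - 20 * x^6*u^5*l^4 + 35 * x^6*u^6 + 69 * x^6*u^6*l + 59 * x^6*u^6*l^2 - 6 *
      x^6*u^6*l^3 - 12 * x^6*u^6*l^4 + 17 * x^6*u^7 + 51 * x^6*u^7*l + 42 * x^6*u^7*l^2 + 13 *
      x^6*u^7*l^3 - 10 * x^6*u^7*l^4 + 5 * x^6*u^8 + 22 * x^6*u^8*l + 26 * x^6*u^8*l^2 + 4 *
      x^6*u^8*l^3 + 8 * x^6*u^9*l + 11 * x^6*u^9*l^2 + 7 * x^6*u^9*l^3 + 3 * x^6*u^10*l^2 +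
      x^6*u^10*l^3 + 2 * x^7*u^2*l^2 + x^7*u^2*l^3 - x^7*u^2*l^4 + 7 * x^7*u^3*l + 8 *
      x^7*u^3*l^2 - x^7*u^3*l^3 - 2 * x^7*u^3*l^4 + 6 * x^7*u^4 + 20 * x^7*u^4*l + 17 *
      x^7*u^4*l^2 - 3 * x^7*u^4*l^3 - 10 * x^7*u^4*l^4 + 19 * x^7*u^5 + 45 * x^7*u^5*l + 39 *
      x^7*u^5*l^2 - 4 * x^7*u^5*l^3 - 8 * x^7*u^5*l^4 + 25 * x^7*u^6 + 56 * x^7*u^6*l + 45 *
      x^7*u^6*l^2 + 13 * x^7*u^6*l^3 - 10 * x^7*u^6*l^4 + 21 * x^7*u^7 + 45 * x^7*u^7*l + 42 *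
      x^7*u^7*l^2 + 6 * x^7*u^7*l^3 + 9 * x^7*u^8 + 35 * x^7*u^8*l + 31 * x^7*u^8*l^2 + 16 *
      x^7*u^8*l^3 + x^7*u^9 + 10 * x^7*u^9*l + 15 * x^7*u^9*l^2 + 4 * x^7*u^9*l^3 + 2 *
      x^7*u^10*l + 2 * x^7*u^10*l^2 + x^7*u^11*l^2 + x^8*u^3*l + 2 * x^8*u^3*l^2 - x^8*u^3*l^3 -
      2 * x^8*u^3*l^4 + x^8*u^4 + 9 * x^8*u^4*l + 9 * x^8*u^4*l^2 - x^8*u^4*l^3 - 2 *
      x^8*u^4*l^4 + 9 * x^8*u^5 + 21 * x^8*u^5*l + 22 * x^8*u^5*l^2 + 6 * x^8*u^5*l^3 - 5 *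
      x^8*u^5*l^4 + 12 * x^8*u^6 + 31 * x^8*u^6*l + 26 * x^8*u^6*l^2 + 4 * x^8*u^6*l^3 + 21 *
      x^8*u^7 + 41 * x^8*u^7*l + 35 * x^8*u^7*l^2 + 16 * x^8*u^7*l^3 + 9 * x^8*u^8 + 29 *
      x^8*u^8*l + 25 * x^8*u^8*l^2 + 6 * x^8*u^8*l^3 + 2 * x^8*u^9 + 10 * x^8*u^9*l + 6 *
      x^8*u^9*l^2 + 2 * x^8*u^10*l + 4 * x^8*u^10*l^2 + 2 * x^9*u^4*l + 4 * x^9*u^4*l^2 +
      x^9*u^4*l^3 - x^9*u^4*l^4 + 2 * x^9*u^5 + 6 * x^9*u^5*l + 5 * x^9*u^5*l^2 + x^9*u^5*l^3 +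
      6 * x^9*u^6 + 15 * x^9*u^6*l + 16 * x^9*u^6*l^2 + 7 * x^9*u^6*l^3 + 12 * x^9*u^7 + 24 *
      x^9*u^7*l + 17 * x^9*u^7*l^2 + 4 * x^9*u^7*l^3 + 6 * x^9*u^8 + 14 * x^9*u^8*l + 6 *
      x^9*u^8*l^2 + x^9*u^9 + 6 * x^9*u^9*l + 6 * x^9*u^9*l^2 + x^10*u^5*l + 2 * x^10*u^5*l^2 +
      x^10*u^5*l^3 + 2 * x^10*u^6 + 5 * x^10*u^6*l + 4 * x^10*u^6*l^2 + x^10*u^6*l^3 + 4 *
      x^10*u^7 + 6 * x^10*u^7*l + 2 * x^10*u^7*l^2 + 2 * x^10*u^8 + 6 * x^10*u^8*l + 4 *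
      x^10*u^8*l^2 + x^11*u^7 + 2 * x^11*u^7*l + x^11*u^7*l^2) * h2

end Cfsg.Agent.SuzukiUniq
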