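import Cfsg.Agent.SuzukiUniq.Core
import Cfsg.Agent.SuzukiUniq.Ident

/-!
# Solving the structure equation
-/

set_option autoImplicit false
set_option linter.unusedSectionVars false

namespace Cfsg.Agent.SuzukiUniq

variable {F : Type*} [Field F] [Finite F] [CharP F 2] {φ : F ≃+* F} {l : F} {f : F × F → F × F}
  (H : Data φ l f)
include H

namespace Data

theorem exists_generic : ∃ x : F, x ≠ 0 ∧ x ≠ 1 := by
  obtain ⟨x, hx⟩ := H.nontriv
  exact ⟨x, fun h => hx (by rw [h, map_zero]), fun h => hx (by rw [h, map_one])⟩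

theorem exists_root (x : F) : ∃ y : F, φ y * y = φ x * x + 1 := H.norm _

theorem phi_ne {x : F} (hx : x ≠ 0) (hx1 : x ≠ 1) : φ x ≠ x := by
  intro h
  have h2 : (2 : F) = 0 := CharTwo.two_eq_zero
  have hy : φ (x + 1) * (x + 1) = φ x * x + 1 := by
    rw [map_add, map_one, h]; linear_combination x * h2
  obtain ⟨he, -⟩ := H.eqn_linear hx hx1 hy
  rw [map_add, map_one, h] at he
  have h3 : x * x * (x + 1) = 0 := by
    linear_combination he + (x + (x + 1) ^ 2 - x * x * (x + 1) * x * (x + 1) -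
      x * x * (l * x) * (1 + x * (x + 1) + (x + 1) * x)) * h2
  have hx' : x + 1 ≠ 0 := fun e => hx1 (by linear_combination e - h2)
  exact mul_ne_zero (mul_ne_zero hx hx) hx' h3

theorem cramer {x y : F} (hx : x ≠ 0) (hx1 : x ≠ 1) (hy : φ y * y = φ x * x + 1) :
    cD x (φ x) l * y = cNy x (φ x) l ∧ cD x (φ x) l * φ y = cNv x (φ x) l := by
  have h2 : (2 : F) = 0 := CharTwo.two_eq_zero
  obtain ⟨e1, e2⟩ := H.eqn_linear hx hx1 hy
  generalize φ x = u at *
  generalize φ y = v at *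
  constructor
  · simp only [cD, cNy, cL0, cL1]
    linear_combination ((u * x + u + l * (x + u)) + (u * x) ^ 2 * (x + 1)) * e1 + ((u * x) * (x + 1 + l * (x + u)) * x + x + 1) * e2 +
      (-l * u * v * x^3 - l * u * v * x^4 + l * u * x * y - 2 * l * u * x^2 - 2 * l * u * x^3 -
        l * u^2 * v * x^2 - 2 * l * u^2 * v * x^3 - l * u^2 * v * x^4 - 2 * l * u^2 * x - 3 * l
        * u^2 * x^2 - l * u^2 * x^3 - l * u^2 * x^4 - l * u^2 * x^5 + l * u^2 * y - l * u^3 * v
        * x^2 - l * u^3 * v * x^3 - l * u^3 * x - l * u^3 * x^2 - l * u^3 * x^3 - 3 * l * u^3 *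
        x^4 - 2 * l * u^3 * x^5 + l * u^3 * x^5 * y - 2 * l * u^4 * x^3 - 2 * l * u^4 * x^4 + l
        * u^4 * x^4 * y - l^2 * u * v * x^4 - l^2 * u * x^3 - 2 * l^2 * u^2 * v * x^3 - 2 * l^2
        * u^2 * x^2 - l^2 * u^2 * x^5 - l^2 * u^3 * v * x^2 - l^2 * u^3 * x - 2 * l^2 * u^3 *
        x^4 - l^2 * u^4 * x^3 - 2 * u^2 * x + u^2 * x * y - 4 * u^2 * x^2 + u^2 * x^2 * y - u^2
        * x^3 + u^2 * x^3 * y + u^2 * x^4 + u^2 * y + u^3 * x^2 + u^3 * x^2 * y - u^3 * x^3 +
        u^3 * x^3 * y - 4 * u^3 * x^4 + u^3 * x^4 * y - 2 * u^3 * x^5 + u^3 * x^5 * y) * h2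
  · simp only [cD, cNv, cL0, cL1]
    linear_combination ((u * x + u + l * (x + u)) + (u * x) ^ 2 * (u + 1)) * e1 + ((u * x) * (x + 1 + l * (x + u)) * u + u + 1) * e2 +
      (l * u * v * x - 2 * l * u * x^2 - l * u * x^3 - 2 * l * u^2 * x - 3 * l * u^2 * x^2 - l
        * u^2 * x^2 * y - l * u^2 * x^3 - l * u^2 * x^3 * y - 2 * l * u^3 * x - l * u^3 * x * y
        - l * u^3 * x^2 - 2 * l * u^3 * x^2 * y - l * u^3 * x^3 - l * u^3 * x^3 * y - 2 * l *
        u^3 * x^4 + l * u^4 * v * x^4 - l * u^4 * x * y - l * u^4 * x^2 - l * u^4 * x^2 * y - 3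
        * l * u^4 * x^3 - 2 * l * u^4 * x^4 + l * u^5 * v * x^3 - l * u^5 * x^2 - 2 * l * u^5 *
        x^3 + l * v * x^2 - l^2 * u * x^3 - 2 * l^2 * u^2 * x^2 - l^2 * u^2 * x^3 * y - l^2 *
        u^3 * x - 2 * l^2 * u^3 * x^2 * y - l^2 * u^3 * x^4 - l^2 * u^4 * x * y - 2 * l^2 * u^4
        * x^3 - l^2 * u^5 * x^2 + u * v * x + u * v * x^2 + u^2 * v * x^2 + u^2 * v * x^3 - 2 *
        u^2 * x - 3 * u^2 * x^2 + u^2 * x^2 * y + u^3 * v * x^2 + u^3 * v * x^3 - u^3 * x - u^3
        * x * y - u^3 * x^3 * y - u^3 * x^4 + u^4 * v * x^3 + u^4 * v * x^4 + u^4 * x^2 * y - 3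
        * u^4 * x^3 - 2 * u^4 * x^4) * h2

theorem cR_eq_zero (hl : l + l ^ 2 ≠ 0) {x : F} (hx : x ≠ 0) (hx1 : x ≠ 1) :
    cR x (φ x) l = 0 := by
  have h2 : (2 : F) = 0 := CharTwo.two_eq_zero
  obtain ⟨y, hy⟩ := H.exists_root x
  obtain ⟨hy', hv'⟩ := H.cramer hx hx1 hy
  have hE : cNy x (φ x) l * cNv x (φ x) l + (φ x * x + 1) * cD x (φ x) l ^ 2 = 0 := by
    rw [← hy', ← hv']
    linear_combination cD x (φ x) l ^ 2 * hy + (φ x * x + 1) * cD x (φ x) l ^ 2 * h2
  rw [poly_ident x (φ x) l h2] at hE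
  have hu : φ x ≠ 0 := by simpa using hx
  have hu' : φ x + 1 ≠ 0 := fun e => hx1 (φ.injective (by rw [map_one]; linear_combination e - h2))
  have hx' : x + 1 ≠ 0 := fun e => hx1 (by linear_combination e - h2)
  have hw : x + φ x ≠ 0 := fun e => H.phi_ne hx hx1 (by linear_combination e - x * h2)
  exact (mul_eq_zero.mp hE).resolve_left
    (mul_ne_zero (mul_ne_zero (mul_ne_zero hl (pow_ne_zero _ (mul_ne_zero hu hx)))
      (mul_ne_zero hu' hx')) (pow_ne_zero _ hw))

theorem cR_sq (hl : l + l ^ 2 ≠ 0) (k : ℕ) {x : F} (hx : x ≠ 0) (hx1 : x ≠ 1) :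
    cR x (φ x) (l ^ 2 ^ k) = 0 := by
  induction k generalizing x with
  | zero => simpa using H.cR_eq_zero hl hx hx1
  | succ k ih =>
    obtain ⟨s, hs⟩ := (Finite.injective_iff_surjective (f := frobenius F 2)).mp
      (frobenius F 2).injective x
    rw [frobenius_def] at hs
    have hs0 : s ≠ 0 := fun h => hx (by rw [← hs, h, zero_pow two_ne_zero])
    have hs1 : s ≠ 1 := fun h => hx1 (by rw [← hs, h, one_pow])
    have h := congrArg (frobenius F 2) (ih hs0 hs1)
    simp only [cR, cC, map_add, map_mul, map_pow, map_one, map_zero, frobenius_def] at h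
    rw [hs, show φ s ^ 2 = φ x by rw [← map_pow, hs], ← pow_mul l, ← pow_succ'] at h
    simp only [cR, cC]
    linear_combination h

/-- The constant is `0` or `1`. -/
theorem l_eq : l = 0 ∨ l = 1 := by
  have h2 : (2 : F) = 0 := CharTwo.two_eq_zero
  suffices hl : l + l ^ 2 = 0 by
    have h : l * (1 + l) = 0 := by linear_combination hl
    rcases mul_eq_zero.mp h with h | h
    · exact Or.inl h
    · exact Or.inr (by linear_combination h - h2)
  by_contra hl
  obtain ⟨x, hx, hx1⟩ := H.exists_generic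
  have r0 := H.cR_sq hl 0 hx hx1
  have r1 := H.cR_sq hl 1 hx hx1
  have r2 := H.cR_sq hl 2 hx hx1
  simp only [pow_zero, pow_one] at r0 r1
  have hu' : φ x + 1 ≠ 0 := fun e => hx1 (φ.injective (by rw [map_one]; linear_combination e - h2))
  have hw : x + φ x ≠ 0 := fun e => H.phi_ne hx hx1 (by linear_combination e - x * h2)
  have hB : 1 + φ x * x ≠ 0 := fun e => hx1 (H.norm_eq_one (by linear_combination e - h2))
  set u := φ x
  set k := (x + u) * (1 + u * x) + u * x
  set B := 1 + u * x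
  set p := l + l ^ 2
  have g1 : (x + u) ^ 2 * p * (k * (1 + p) + p * B ^ 2) = 0 := by
    simp only [cR, cC] at r0 r1
    simp only [k, B, p]
    linear_combination r0 + r1 + (2 * l^3 * u * x + 3 * l^3 * u * x^2 + 3 * l^3 * u * x^3 + l^3 * u * x^4 + l^3 * u^2 + 3
        * l^3 * u^2 * x + 6 * l^3 * u^2 * x^2 + 3 * l^3 * u^2 * x^3 + l^3 * u^2 * x^4 + l^3 *
        u^3 + 3 * l^3 * u^3 * x + 3 * l^3 * u^3 * x^2 + 2 * l^3 * u^3 * x^3 + l^3 * u^4 * x +
        l^3 * u^4 * x^2 + l^3 * x^2 + l^3 * x^3 - u * x^2 - u * x^3 - u^2 - u^2 * x - 4 * u^2 *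
        x^2 - u^2 * x^3 - u^2 * x^4 - u^3 * x - u^3 * x^2) * h2
  have g2 : (x + u) ^ 2 * (p ^ 2) * (k * (1 + p ^ 2) + p ^ 2 * B ^ 2) = 0 := by
    simp only [cR, cC, show l ^ 2 ^ 2 = (l ^ 2) ^ 2 by ring] at r1 r2
    simp only [k, B, p]
    linear_combination r1 + r2 + (3 * l^3 * u * x^2 + l^3 * u * x^3 + l^3 * u * x^4 + 3 * l^3 * u^2 * x + 2 * l^3 * u^2 *
        x^2 + 3 * l^3 * u^2 * x^3 + l^3 * u^3 + l^3 * u^3 * x + 3 * l^3 * u^3 * x^2 + l^3 * u^4
        * x + l^3 * x^3 + 4 * l^5 * u * x + 6 * l^5 * u * x^2 + 6 * l^5 * u * x^3 + 2 * l^5 * u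
        * x^4 + 2 * l^5 * u^2 + 6 * l^5 * u^2 * x + 12 * l^5 * u^2 * x^2 + 6 * l^5 * u^2 * x^3 +
        2 * l^5 * u^2 * x^4 + 2 * l^5 * u^3 + 6 * l^5 * u^3 * x + 6 * l^5 * u^3 * x^2 + 4 * l^5
        * u^3 * x^3 + 2 * l^5 * u^4 * x + 2 * l^5 * u^4 * x^2 + 2 * l^5 * x^2 + 2 * l^5 * x^3 +
        6 * l^6 * u * x + 9 * l^6 * u * x^2 + 9 * l^6 * u * x^3 + 3 * l^6 * u * x^4 + 3 * l^6 *
        u^2 + 9 * l^6 * u^2 * x + 18 * l^6 * u^2 * x^2 + 9 * l^6 * u^2 * x^3 + 3 * l^6 * u^2 *
        x^4 + 3 * l^6 * u^3 + 9 * l^6 * u^3 * x + 9 * l^6 * u^3 * x^2 + 6 * l^6 * u^3 * x^3 + 3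
        * l^6 * u^4 * x + 3 * l^6 * u^4 * x^2 + 3 * l^6 * x^2 + 3 * l^6 * x^3 + 4 * l^7 * u * x
        + 6 * l^7 * u * x^2 + 6 * l^7 * u * x^3 + 2 * l^7 * u * x^4 + 2 * l^7 * u^2 + 6 * l^7 *
        u^2 * x + 12 * l^7 * u^2 * x^2 + 6 * l^7 * u^2 * x^3 + 2 * l^7 * u^2 * x^4 + 2 * l^7 *
        u^3 + 6 * l^7 * u^3 * x + 6 * l^7 * u^3 * x^2 + 4 * l^7 * u^3 * x^3 + 2 * l^7 * u^4 * x
        + 2 * l^7 * u^4 * x^2 + 2 * l^7 * x^2 + 2 * l^7 * x^3 - u * x^2 - u * x^3 - u^2 - u^2 *
        x - 4 * u^2 * x^2 - u^2 * x^3 - u^2 * x^4 - u^3 * x - u^3 * x^2) * h2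
  have a1 : k * (1 + p) + p * B ^ 2 = 0 :=
    (mul_eq_zero.mp g1).resolve_left (mul_ne_zero (pow_ne_zero _ hw) hl)
  have a2 : k * (1 + p ^ 2) + p ^ 2 * B ^ 2 = 0 :=
    (mul_eq_zero.mp g2).resolve_left (mul_ne_zero (pow_ne_zero _ hw) (pow_ne_zero _ hl))
  have a3 : p * B ^ 2 = 0 := by
    linear_combination (1 + p) * a1 - a2 - (k * p) * h2
  exact mul_ne_zero hl (pow_ne_zero _ hB) a3

end Data

omit H in
/-- A field automorphism pair from a multiplicative relation. -/
theorem Data.phi_phi' {φ : F ≃+* F} (hnt : ∃ x, φ x ≠ x) (θ : F → F)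
    (hadd : ∀ a b, θ (a + b) = θ a + θ b) (hmul : ∀ a b, θ (a * b) = θ a * θ b) (h1 : θ 1 = 1)
    (h : ∀ x, θ (φ x * x) = x * x * φ x) :
    (∀ x, θ x = φ x) ∧ ∀ x, φ (φ x) = x * x := by
  have h2 : (2 : F) = 0 := CharTwo.two_eq_zero
  have hsum : ∀ x, θ x + θ (φ x) = x * x + φ x := by
    intro x
    have e := h (x + 1)
    rw [map_add, map_one, hmul, hadd, hadd, h1] at e
    have e0 := h x
    rw [hmul] at e0
    linear_combination e - e0 + (x + x * φ x) * h2
  have hor : ∀ x, θ x = x * x ∨ θ x = φ x := by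
    intro x
    have e0 := h x
    rw [hmul] at e0
    have : (θ x - x * x) * (θ x - φ x) = 0 := by linear_combination (θ x) * hsum x - e0
    rcases mul_eq_zero.mp this with e | e
    · exact Or.inl (sub_eq_zero.mp e)
    · exact Or.inr (sub_eq_zero.mp e)
  have hall : ∀ x, θ x = φ x := by
    by_contra hcon
    push Not at hcon
    obtain ⟨a, ha⟩ := hcon
    have hsq : ∀ x, θ x = x * x := by
      intro c
      by_contra hc
      have hc' := (hor c).resolve_left hc
      have ha' := (hor a).resolve_right ha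
      rcases hor (a + c) with e | e
      · rw [hadd] at e
        exact hc (by linear_combination e - ha' + a * c * h2)
      · rw [hadd, map_add] at e
        exact ha (by linear_combination e - hc')
    obtain ⟨x, hx⟩ := hnt
    have e := hsum x
    rw [hsq x, hsq (φ x)] at e
    have e' : φ x * (φ x - 1) = 0 := by linear_combination e
    rcases mul_eq_zero.mp e' with e'' | e''
    · exact hx (by rw [φ.injective (e''.trans (map_zero φ).symm), map_zero])
    · exact hx (by rw [φ.injective ((sub_eq_zero.mp e'').trans (map_one φ).symm), map_one])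
  refine ⟨hall, fun x => ?_⟩
  have e := hsum x
  rw [hall, hall] at e
  linear_combination e

namespace Data

/-- With `l = 0`, the root of `φ y * y = b + 1` is affine in `b * x`. -/
theorem root_eq (hl : l = 0) {x y : F} (hx : x ≠ 0) (hx1 : x ≠ 1) (hy : φ y * y = φ x * x + 1) :
    y * (φ x * x + 1) = φ x * x * x + 1 := by
  have h2 : (2 : F) = 0 := CharTwo.two_eq_zero
  subst hl
  obtain ⟨e1, e2⟩ := H.eqn_linear hx hx1 hy
  obtain ⟨hD, -⟩ := H.cramer hx hx1 hy
  have hu : φ x ≠ 0 := by simpa using hx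
  have hx' : x + 1 ≠ 0 := fun e => hx1 (by linear_combination e - h2)
  have hw : x + φ x ≠ 0 := fun e => H.phi_ne hx hx1 (by linear_combination e - x * h2)
  generalize φ x = u at *
  generalize φ y = v at *
  simp only [cD, cNy, cL0, cL1, zero_mul, add_zero] at hD
  have hne : (u * x) ^ 2 + u ≠ 0 := by
    intro e
    have e' : u * x * x = 1 := by
      have : u * (u * x * x + 1) = 0 := by linear_combination e
      have := (mul_eq_zero.mp this).resolve_left hu
      linear_combination this - h2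
    have key : (x + 1) * (x + 1) * (x + 1) * (x + 1) = 0 := by
      linear_combination x ^ 3 * e1 + x ^ 4 * e2 - (-1 - u * v * x^4 - u * v * x^5 - u * x^2 + u * x^3 + u * x^3 * y + u * x^4 - u * x^4 * y
        - u * x^5 - u^2 * x^4 - u^2 * x^4 * y + v * x^3 + v * x^4 + 2 * x^2 + x^3 * y) * e' +
        (1 + 2 * x + 2 * x^2 + 2 * x^3 + x^4) * h2
    exact mul_ne_zero (mul_ne_zero (mul_ne_zero hx' hx') hx') hx' key
  have hfac : (x + u) * ((x + 1) * ((u * x) ^ 2 + u)) * (y * (u * x + 1) - (u * x * x + 1)) = 0 := by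
    linear_combination hD + (u^2 * x + 2 * u^2 * x^2 - u^2 * x^4 - u^3 * x^2 + 2 * u^3 * x^4 + u^3 * x^5) * h2
  exact sub_eq_zero.mp ((mul_eq_zero.mp hfac).resolve_left
    (mul_ne_zero hw (mul_ne_zero hx' hne)))

/-- With `l = 0`, the automorphism squares to the Frobenius. -/
theorem phi_phi (hl : l = 0) : ∀ x, φ (φ x) = x * x := by
  classical
  choose r hr using H.norm
  have hr' : ∀ x, r (φ x * x) = x := fun x => H.norm_inj (hr _)
  let θ : F → F := fun b => b * r b
  have hmul : ∀ a b, θ (a * b) = θ a * θ b := fun a b => by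
    have : r (a * b) = r a * r b := H.norm_inj (by rw [hr, map_mul]; linear_combination (φ (r b) * r b) * (-hr a) + a * (-hr b))
    simp only [θ, this]; ring
  have hr1 : r 1 = 1 := by simpa using hr' 1
  have hr0 : r 0 = 0 := by simpa using hr' 0
  have h2 : (2 : F) = 0 := CharTwo.two_eq_zero
  have h1 : θ 1 = 1 := by simp [θ, hr1]
  have hone : ∀ b, θ (b + 1) = θ b + 1 := by
    intro b
    by_cases hb : r b = 0
    · have : b = 0 := by rw [← hr b, hb, mul_zero]
      subst this; simp [θ, hr1]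
    by_cases hb1 : r b = 1
    · have : b = 1 := by rw [← hr b, hb1, map_one, mul_one]
      subst this
      simp only [θ, hr1]
      rw [show (1 : F) + 1 = 0 by linear_combination h2, hr0]
      linear_combination -h2
    have hy : φ (r (b + 1)) * r (b + 1) = φ (r b) * r b + 1 := by rw [hr, hr]
    have := H.root_eq hl hb hb1 hy
    rw [hr] at this
    simp only [θ]
    linear_combination this
  have hadd : ∀ a b, θ (a + b) = θ a + θ b := by
    intro a b
    by_cases ha : a = 0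
    · simp [ha, θ]
    rw [show a + b = a * (b / a + 1) by field_simp; ring, hmul, hone, mul_add, ← hmul,
      mul_div_cancel₀ _ ha, mul_one]
    ring
  exact (phi_phi' H.nontriv θ hadd hmul h1 fun x => by simp only [θ, hr']; ring).2

/-- The inversion. -/
theorem formula_one (hl : l = 0) (c : F) :
    φ c + c + 1 ≠ 0 ∧ f (1, c) = (c / (φ c + c + 1), 1 / (φ c + c + 1)) := by
  have h2 : (2 : F) = 0 := CharTwo.two_eq_zero
  subst hl
  by_cases hc0 : c = 0
  · subst hc0
    simp [H.f_A]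
  have hφφ := H.phi_phi rfl
  have hA' : f (1, 1) = (1, 1) := by
    have h := H.hz (0, 1) (fun e => one_ne_zero (congrArg Prod.snd e))
      fun e => zero_ne_one (congrArg Prod.fst e)
    rw [H.fz] at h
    simp only [mul, map_zero, zero_mul, map_one, mul_one, mul_zero, add_zero, zero_add] at h
    rw [show (1 : F) + 1 = 0 by linear_combination h2, H.f_A] at h
    simpa using h
  by_cases hc1 : c = 1
  · subst hc1
    have : φ 1 + 1 + 1 = (1 : F) := by rw [map_one]; linear_combination h2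
    rw [this, hA']
    simp
  obtain ⟨x, hx⟩ := H.norm c
  obtain ⟨y, hy⟩ := H.exists_root x
  have hx0 : x ≠ 0 := fun e => hc0 (by rw [← hx, e, mul_zero])
  have hy0 : y ≠ 0 := fun e => hc1 (by
    rw [e, mul_zero] at hy; linear_combination -hy - h2 - hx)
  have hx1 : x ≠ 1 := fun e => hc1 (by rw [← hx, e, map_one, mul_one])
  have hroot := H.root_eq rfl hx0 hx1 hy
  obtain ⟨p1, q1⟩ := H.eqn_center hx0
  obtain ⟨p2, q2⟩ := H.eqn_center hy0
  simp only [add_zero, zero_add] at p1 q1 p2 q2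
  rw [hy, hx, show c + 1 + 1 = c by linear_combination h2] at p2 q2
  rw [hx] at p1 q1 hroot
  have hphi : φ c = x * c := by
    rw [← hx, map_mul, hφφ]; ring
  rw [hphi]
  have hN0 : c * c + c + 1 ≠ 0 := by
    intro e
    have e3 : c * c * c = 1 := by linear_combination (c - 1) * e
    have e' : φ c * φ c + φ c + 1 = 0 := by
      have := congrArg φ e; simpa using this
    have hor : (φ c - c) * (φ c - (c + 1)) = 0 := by
      linear_combination e' + e - ((c + 1) * φ c + 1) * h2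
    rcases mul_eq_zero.mp hor with h | h
    · have h' : φ c = c := sub_eq_zero.mp h
      have := hφφ c
      rw [h', h'] at this
      have : c * (c - 1) = 0 := by linear_combination -this
      rcases mul_eq_zero.mp this with h'' | h''
      · exact hc0 h''
      · exact hc1 (sub_eq_zero.mp h'')
    · have h' : φ c = c + 1 := sub_eq_zero.mp h
      have := hφφ c
      rw [h', map_add, map_one, h'] at this
      have : (1 : F) = 0 := by linear_combination e + this + (-c - 1) * h2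
      exact one_ne_zero this
  have hx' : x + 1 ≠ 0 := fun e => hx1 (by linear_combination e - h2)
  generalize (f (1, c)) = g at *
  obtain ⟨P, Q⟩ := g
  generalize (f (1, c + 1)) = g' at *
  obtain ⟨P', Q'⟩ := g'
  simp only at p1 q1 p2 q2
  have hP : (x + 1) * (P * (x * c + c + 1)) = (x + 1) * c := by
    linear_combination (c + 1) * y * p1 + (c + 1) * p2 - (x * P - 1) * hroot +
      (1 + P + P * c + P * c * x) * h2
  have hP1 : P * (x * c + c + 1) = c := mul_left_cancel₀ hx' hP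
  have hne : x * c + c + 1 ≠ 0 := fun e => hc0 (by rw [← hP1, e, mul_zero])
  have hQ : (c * c + c + 1) * (Q * (x * c + c + 1)) = (c * c + c + 1) * 1 := by
    linear_combination (c + 1) * (x * c + c + 1) * q1 + (x * c + c + 1) * q2 -
      (c + 1) * (x * c + c + 1) * p1 + ((c + 1) * x + 1) * hP1 +
      (-1 + Q + Q * c + Q * c * x - c - c ^ 2) * h2
  have hQ1 : Q * (x * c + c + 1) = 1 := by simpa using mul_left_cancel₀ hN0 hQ
  refine ⟨hne, Prod.ext ?_ ?_⟩
  · show P = c / (x * c + c + 1)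
    rw [eq_div_iff hne, hP1]
  · show Q = 1 / (x * c + c + 1)
    rw [eq_div_iff hne, hQ1]

/-- The inversion in closed form. -/
theorem formula (hl : l = 0) {a b : F} (h : a ≠ 0 ∨ b ≠ 0) :
    f (a, b) = (b / (a * b + φ a * a ^ 2 + φ b), a / (a * b + φ a * a ^ 2 + φ b)) := by
  by_cases ha : a = 0
  · subst ha
    have hb : b ≠ 0 := by simpa using h
    obtain ⟨s, rfl⟩ := H.norm b
    have hs : s ≠ 0 := fun e => hb (by rw [e, mul_zero])
    subst hl
    have hu : φ s ≠ 0 := by simpa using hs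
    rw [H.f_center hs, map_mul, H.phi_phi rfl]
    simp only [map_zero, mul_zero, zero_mul, zero_add, zero_div]
    refine Prod.ext ?_ rfl
    field_simp
  · obtain ⟨hne, hf⟩ := H.formula_one hl (b / (φ a * a))
    have hu : φ a ≠ 0 := by simpa using ha
    have hb : b = φ a * a * (b / (φ a * a)) := by field_simp
    conv_lhs => rw [hb, H.f_one ha, hf]
    rw [map_div₀, map_mul, H.phi_phi hl, map_inv₀] at *
    refine Prod.ext ?_ ?_
    · show _ = b / _
      field_simp
      ring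
    · show _ = a / _
      field_simp
      ring

end Data

end Cfsg.Agent.SuzukiUniq
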