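import Cfsg.Agent.SuzukiUniq.Coords
import Cfsg.Agent.SuzukiUniq.Solve
import Cfsg.Agent.Zassenhaus.EvenMain

/-!
# The inversion map of a Zassenhaus group with kernel of type A
-/

set_option autoImplicit false
set_option linter.unusedSectionVars false

namespace Cfsg.Agent.SuzukiUniq

open Subgroup MulAction Cfsg.Agent.Zassenhaus

/-- Coordinates on the kernel compatible with the two-point stabiliser. -/
structure Coord {G : Type*} {Ω : Type*} [Group G] [MulAction G Ω] (a b : Ω) (U : Subgroup G)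
    {F : Type*} [Field F] (φ : F ≃+* F) (e : F × F ≃ U) : Prop where
  nontriv : ∃ x, φ x ≠ x
  norm : ∀ c : F, ∃ x, φ x * x = c
  map_mul : ∀ p q, e (mul φ p q) = e p * e q
  card : Nat.card F = Nat.card (twoPt G a b) + 1
  conj : ∀ t : F, t ≠ 0 → ∃ d ∈ twoPt G a b, ∀ p, d * (e p : G) * d⁻¹ = e (act φ t p)

variable {G : Type*} {Ω : Type*} [Group G] [Finite G] [MulAction G Ω] [Fintype Ω]

theorem exists_coord [IsSimpleGroup G] {a b : Ω} {U : Subgroup G} (X : EvenCtx G a b U) :
    ∃ (F : Type) (_ : Field F) (_ : Fintype F) (_ : CharP F 2) (φ : F ≃+* F) (e : F × F ≃ U),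
      Coord a b U φ e := by
  obtain ⟨n, -, -, hd, hcard⟩ := X.exists_exponent
  have hc : Nat.card (center U) = 2 ^ n := by rw [X.card_center, hd]
  have hK : IsCyclic (X.ker.act (b := b)).range := by
    haveI := X.cyc
    exact isCyclic_of_surjective _ (X.ker.act (b := b)).rangeRestrict_surjective
  have ho : ∀ v : U, v ≠ 1 → v * v = 1 → orderOf (v : G) = 2 := fun v hv1 hv =>
    orderOf_eq_prime (by rw [pow_two]; exact congrArg Subtype.val hv) fun e => hv1 (Subtype.ext e)
  have hreg : ∀ x y : U, x ≠ 1 → x * x = 1 → y ≠ 1 → y * y = 1 →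
      ∃! k : (X.ker.act (b := b)).range, (k : MulAut U) x = y := by
    intro x y hx1 hx hy1 hy
    obtain ⟨h, hh, huniq⟩ := X.exists_twoPt_conj (ho x hx1 hx) x.2 (ho y hy1 hy) y.2
    refine ⟨⟨X.ker.act h, h, rfl⟩, Subtype.ext ?_, ?_⟩
    · rw [X.ker.act_coe]; exact hh
    rintro ⟨k, h', rfl⟩ hk
    have := huniq h' (by
      show (h' : G) * x * (h' : G)⁻¹ = y
      rw [← X.ker.act_coe]
      exact congrArg Subtype.val hk)
    exact Subtype.ext (by rw [this])
  obtain ⟨F, iF, iFf, iC, φ, e, hF, hnt, hnorm, hmul, hconj⟩ :=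
    exists_coords X.isSuzukiTwoGroup (X.ker.act (b := b)).range hK hreg (by rw [hc]; exact hcard)
  refine ⟨F, iF, iFf, iC, φ, e, hnt, hnorm, hmul, ?_, fun t ht => ?_⟩
  · rw [Nat.card_eq_fintype_card, hF, X.card_center]
  · obtain ⟨k, ⟨h, rfl⟩, hk⟩ := hconj t ht
    exact ⟨h, h.2, fun p => by rw [← X.ker.act_coe, hk]⟩

section Setup

variable {a b : Ω} {U : Subgroup G} {F : Type*} [Field F] {φ : F ≃+* F} {e : F × F ≃ U}

/-- The finite points. -/
def pt (b : Ω) (e : F × F ≃ U) (p : F × F) : Ω := (e p : G) • b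

variable (X : EvenCtx G a b U) (C : Coord a b U φ e)
include X C

theorem e_zero : e 0 = 1 := by
  have h := C.map_mul 0 0
  rw [show mul φ (0 : F × F) 0 = 0 from Prod.ext (by simp [mul]) (by simp [mul])] at h
  exact mul_eq_left.mp h.symm

theorem pt_zero : pt b e 0 = b := by rw [pt, e_zero X C, OneMemClass.coe_one, one_smul]

theorem pt_ne (p : F × F) : pt b e p ≠ a := fun h =>
  X.odd.ne (MulAction.injective (e p : G) ((X.ker.fix _ (e p).2).trans h.symm))

theorem pt_injective : Function.Injective (pt b e) := fun p q h => e.injective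
  ((X.ker.reg b (pt b e q) X.odd.ne.symm (pt_ne X C q)).unique h rfl)

theorem pt_surj {c : Ω} (hc : c ≠ a) : ∃ p, pt b e p = c := by
  obtain ⟨u, hu, -⟩ := X.ker.reg b c X.odd.ne.symm hc
  exact ⟨e.symm u, by rw [pt, e.apply_symm_apply]; exact hu⟩

theorem smul_pt (p q : F × F) : (e p : G) • pt b e q = pt b e (mul φ p q) := by
  rw [pt, pt, C.map_mul, Subgroup.coe_mul, mul_smul]

theorem all_conj [Finite F] {d : G} (hd : d ∈ twoPt G a b) :
    ∃ t : F, t ≠ 0 ∧ ∀ p, d * (e p : G) * d⁻¹ = e (act φ t p) := by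
  have h : ∀ t : {t : F // t ≠ 0}, ∃ d : twoPt G a b, ∀ p, (d : G) * (e p : G) * (d : G)⁻¹ = e (act φ t.1 p) :=
    fun t => by obtain ⟨d, hd, h⟩ := C.conj t.1 t.2; exact ⟨⟨d, hd⟩, h⟩
  choose g hg using h
  have hinj : Function.Injective g := fun s t hst => by
    have h1 := hg s (1, 0)
    rw [hst, hg t] at h1
    have := congrArg Prod.fst (e.injective (Subtype.ext h1))
    simp [act] at this
    exact Subtype.ext this.symm
  have hsurj : Function.Surjective g := (hinj.bijective_of_nat_card_le (by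
    classical
    haveI := Fintype.ofFinite F
    have hF := C.card
    rw [Nat.card_eq_fintype_card] at hF
    rw [Nat.card_eq_fintype_card (α := {t : F // t ≠ 0}), Fintype.card_subtype_compl,
      Fintype.card_subtype_eq]
    omega)).2
  obtain ⟨t, ht⟩ := hsurj ⟨d, hd⟩
  exact ⟨t.1, t.2, fun p => by have := hg t p; rwa [ht] at this⟩

theorem conj_pt {d : G} (hd : d ∈ twoPt G a b) {t : F}
    (h : ∀ p, d * (e p : G) * d⁻¹ = e (act φ t p)) (p : F × F) :
    d • pt b e p = pt b e (act φ t p) := by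
  rw [pt, pt, ← h, mul_smul, mul_smul, inv_smul_eq_iff.mpr (show b = d • b from hd.2.symm)]

theorem exists_map {w : G} (hwa : w • a = b) (hwb : w • b = a) :
    ∃ f : F × F → F × F, ∀ p, p ≠ 0 → w • pt b e p = pt b e (f p) := by
  classical
  have : ∀ p, p ≠ (0 : F × F) → ∃ q, w • pt b e p = pt b e q := fun p hp => by
    obtain ⟨q, hq⟩ := pt_surj X C (c := w • pt b e p) fun h =>
      hp (pt_injective X C ((MulAction.injective w (h.trans hwb.symm)).trans (pt_zero X C).symm))
    exact ⟨q, hq.symm⟩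
  choose g hg using this
  exact ⟨fun p => if h : p ≠ 0 then g p h else 0, fun p hp => by simp [hp, hg p hp]⟩

variable {w : G} (hwa : w • a = b) (hwb : w • b = a) {f : F × F → F × F}
  (hf : ∀ p, p ≠ 0 → w • pt b e p = pt b e (f p))
include hwa hwb hf

theorem w_sq : w * w = 1 := sq_of_orderOf_two (X.odd.swap_invol X.inv hwa hwb)

theorem map_ne_zero' (p : F × F) (hp : p ≠ 0) : f p ≠ 0 := fun h => by
  have h1 := hf p hp
  rw [h, pt_zero X C] at h1
  exact pt_ne X C p (MulAction.injective w (h1.trans hwa.symm))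

theorem map_invol (p : F × F) (hp : p ≠ 0) : f (f p) = p := by
  refine pt_injective X C ?_
  rw [← hf _ (map_ne_zero' X C hwa hwb hf p hp), ← hf p hp, ← mul_smul, w_sq X C hwa hwb hf, one_smul]

theorem map_act (t : F) (p : F × F) (ht : t ≠ 0) (hp : p ≠ 0) :
    f (act φ t p) = act φ t⁻¹ (f p) := by
  obtain ⟨d, hd, h⟩ := C.conj t ht
  have hi : ∀ q, d⁻¹ * (e q : G) * d⁻¹⁻¹ = e (act φ t⁻¹ q) := fun q => by
    have h1 := h (act φ t⁻¹ q)
    rw [show act φ t (act φ t⁻¹ q) = q by
      have : φ t ≠ 0 := (_root_.map_ne_zero φ).mpr ht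
      refine Prod.ext ?_ ?_ <;> simp [act, map_inv₀] <;> field_simp] at h1
    rw [← h1]; group
  have hp' : act φ t p ≠ 0 := fun e0 => hp (by
    have : φ t ≠ 0 := (_root_.map_ne_zero φ).mpr ht
    simpa [act, Prod.ext_iff, ht, this] using e0)
  refine pt_injective X C ?_
  rw [← hf _ hp', ← conj_pt X C hd h, ← conj_pt X C (inv_mem hd) hi, ← hf p hp, ← mul_smul, ← mul_smul,
    ← X.inv w hwa hwb d hd, inv_mul_cancel_right]

/-- The product of `w`, the central involution and `w`. -/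
theorem triple [Finite F] [CharP F 2] :
    ∃ (d : G) (δ : F), d ∈ twoPt G a b ∧ δ ≠ 0 ∧ (∀ p, d * (e p : G) * d⁻¹ = e (act φ δ p)) ∧
      w * (e (0, 1) : G) * w = (e (f (0, 1)) : G) * d * w * (e (f (0, 1)) : G)⁻¹ ∧
      act φ δ (f (e.symm (e (f (0, 1)))⁻¹)) = e.symm (e (f (0, 1)))⁻¹ := by
  have h2 : (2 : F) = 0 := CharTwo.two_eq_zero
  set z : G := (e (0, 1) : G) with hz
  set A : F × F := f (0, 1) with hA
  set g : G := (e A : G) with hg
  have hz1 : ((0, 1) : F × F) ≠ 0 := fun h => one_ne_zero (congrArg Prod.snd h)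
  have hga : g • a = a := X.ker.fix _ (e A).2
  have hgi : g⁻¹ • a = a := inv_smul_eq_iff.mpr hga.symm
  have hza : z • a = a := X.ker.fix _ (e _).2
  have hzz : z * z = 1 := by
    rw [hz, ← Subgroup.coe_mul, ← C.map_mul, show mul φ ((0, 1) : F × F) (0, 1) = 0 from
      Prod.ext (by simp [mul]) (by simp [mul, CharTwo.add_self_eq_zero]), e_zero X C, OneMemClass.coe_one]
  have hw2 := w_sq X C hwa hwb hf
  have hgb : g • b = w • z • b := (hf (0, 1) hz1).symm
  have hT : (w * z * w) • a = g • b := by rw [mul_smul, mul_smul, hwa, hgb]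
  have hTb : (w * z * w) • b = b := by rw [mul_smul, mul_smul, hwb, hza, hwa]
  have hT2 : (w * z * w) * (w * z * w) = 1 := by
    rw [show w * z * w * (w * z * w) = w * z * (w * w) * z * w by group, hw2, mul_one,
      mul_assoc w z z, hzz, mul_one, hw2]
  set d := g⁻¹ * (w * z * w) * g * w with hd
  have hswapa : (g⁻¹ * (w * z * w) * g) • a = b := by
    rw [mul_smul, mul_smul, hga, hT, inv_smul_smul]
  have hswapb : (g⁻¹ * (w * z * w) * g) • b = a := by
    rw [mul_smul, mul_smul, ← hT, ← mul_smul (w * z * w), hT2, one_smul, hgi]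
  have hdD : d ∈ twoPt G a b :=
    ⟨by show d • a = a; rw [hd, mul_smul, hwa, hswapb],
      by show d • b = b; rw [hd, mul_smul, hwb, hswapa]⟩
  have hwi : w⁻¹ = w := inv_eq_of_mul_eq_one_right hw2
  have hdw : d * w = g⁻¹ * (w * z * w) * g := by rw [hd, mul_assoc _ w w, hw2, mul_one]
  obtain ⟨δ, hδ0, hδ⟩ := all_conj X C hdD
  refine ⟨d, δ, hdD, hδ0, hδ, by rw [mul_assoc _ d w, hdw]; group, ?_⟩
  set B := e.symm (e A)⁻¹ with hB
  have hBpt : pt b e B = g⁻¹ • b := by
    rw [pt, hB, e.apply_symm_apply]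
    rfl
  have hB0 : B ≠ 0 := fun h => by
    have h1 : (e A)⁻¹ = 1 := by rw [← e.apply_symm_apply (e A)⁻¹, ← hB, h, e_zero X C]
    exact map_ne_zero' X C hwa hwb hf _ hz1 (e.injective ((inv_eq_one.mp h1).trans (e_zero X C).symm))
  refine pt_injective X C ?_
  rw [← conj_pt X C hdD hδ, ← hf B hB0, hBpt, ← mul_smul, hdw, mul_smul, smul_inv_smul, mul_smul, hTb]

theorem normalised [Finite F] [CharP F 2] {l : F} (hfz : f (0, 1) = (1, l)) : Data φ l f := by
  have h2 : (2 : F) = 0 := CharTwo.two_eq_zero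
  obtain ⟨d, δ, hd, hδ0, hδ, hT, hfix⟩ := triple X C hwa hwb hf
  rw [hfz] at hT hfix
  have hinv : e.symm (e (1, l))⁻¹ = (1, l + 1) := by
    rw [Equiv.symm_apply_eq]
    refine inv_eq_of_mul_eq_one_right ?_
    rw [← C.map_mul, ← e_zero X C]
    congr 1
    refine Prod.ext ?_ ?_ <;> simp [mul] <;> grind
  rw [hinv] at hfix
  have hz0 : ((0, 1) : F × F) ≠ 0 := fun h => one_ne_zero (congrArg Prod.snd h)
  have hA0 : ((1, l) : F × F) ≠ 0 := fun h => one_ne_zero (congrArg Prod.fst h)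
  have hA0' : ((1, l + 1) : F × F) ≠ 0 := fun h => one_ne_zero (congrArg Prod.fst h)
  have hinvol := map_invol X C hwa hwb hf
  have hgen : ∀ y : F × F, y ≠ 0 → y ≠ (1, l) →
      f (mul φ (0, 1) (f y)) = mul φ (1, l) (act φ δ (f (mul φ (1, l + 1) y))) := by
    intro y hy hyA
    have h1 : mul φ (0, 1) (f y) ≠ 0 := fun h0 => hyA (by
      have : f y = (0, 1) := by
        simp only [mul, map_zero, zero_mul, add_zero, zero_add, Prod.ext_iff, Prod.fst_zero, Prod.snd_zero] at h0
        exact Prod.ext h0.1 (by show (f y).2 = 1; linear_combination h0.2 - h2)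
      rw [← hinvol y hy, this, hfz])
    have h3 : mul φ (1, l + 1) y ≠ 0 := fun h0 => hyA (by
      simp only [mul, map_one, one_mul, Prod.ext_iff, Prod.fst_zero, Prod.snd_zero] at h0
      refine Prod.ext ?_ ?_
      · show y.1 = 1; linear_combination h0.1 - h2
      · show y.2 = l; linear_combination h0.2 - h0.1 - l * h2)
    have hP := congrArg (fun g : G => g • pt b e y) hT
    simp only [mul_smul] at hP
    rw [hf y hy, smul_pt X C, hf _ h1, ← Subgroup.coe_inv, show (e (1, l))⁻¹ = e (1, l + 1) by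
      rw [← hinv, e.apply_symm_apply], smul_pt X C, hf _ h3, conj_pt X C hd hδ, smul_pt X C] at hP
    exact pt_injective X C hP
  have hδ1 : δ = 1 := by
    have h := hgen (0, 1) hz0 fun h => zero_ne_one (congrArg Prod.fst h)
    rw [hfz] at h
    have e1 : mul φ (0, 1) (1, l) = ((1, l + 1) : F × F) := by simp [mul, add_comm]
    have e2 : mul φ (1, l + 1) (0, 1) = ((1, l) : F × F) := by
      refine Prod.ext ?_ ?_ <;> simp [mul] <;> grind
    rw [e1, e2, show f (1, l) = (0, 1) by rw [← hfz, hinvol _ hz0]] at h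
    rw [h] at hfix
    simpa [act, mul] using congrArg Prod.fst hfix
  refine ⟨C.norm, C.nontriv, map_act X C hwa hwb hf, hinvol, map_ne_zero' X C hwa hwb hf, hfz,
    fun y hy hyA => ?_⟩
  rw [hgen y hy hyA, hδ1]
  simp [act]

end Setup

end Cfsg.Agent.SuzukiUniq
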